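import Cfsg.Agent.Lib.ThreeTrans.Refl3.Space
import Cfsg.Agent.Lib.ThreeTrans.Refl3.Small.Rigid4
import Cfsg.Agent.Lib.ThreeTrans.Basic
import Cfsg.Prelude.Def_FischerSpaces

/-!
Models of sets of 3-transpositions by the vectors of norm one of a space over the field with three
elements; the local models at the members commuting with one member (owner: helper6).
-/

set_option autoImplicit false

namespace CfsgLib.ThreeTrans.Refl3

open Cfsg CfsgLib.Classical.Quad
open QuadraticMap (polar polarBilin)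

universe u v

theorem not_isSquare_neg_one : ¬ IsSquare (-1 : ZMod 3) := by
  rintro ⟨r, hr⟩
  revert r
  decide

theorem one_ne_neg : (1 : ZMod 3) ≠ -1 := by decide

theorem four_eq : (2 : ZMod 3) * 2 = 1 := by decide

theorem neg_two_mul' : ∀ {t : ZMod 3}, -(2 * t) = t := by decide

theorem three' : (1 : ZMod 3) + 2 = 0 := by decide

theorem three_smul' {M : Type*} [AddCommGroup M] [Module (ZMod 3) M] (x : M) : x + (2 : ZMod 3) • x = 0 := by
  rw [show x + (2 : ZMod 3) • x = ((1 : ZMod 3) + 2) • x by rw [add_smul, one_smul], three', zero_smul]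

variable [Fact (Nat.Prime 3)] {G : Type u} [Group G] {W : Type v} [AddCommGroup W] [Module (ZMod 3) W]
  {Q : QuadraticForm (ZMod 3) W}

/-- The members commuting with `d`, other than `d`. -/
def nb (D : Set G) (d : G) : Set G := {y | y ∈ D ∧ y ≠ d ∧ Commute d y}

/-- The members of `S` are modelled by the vectors of norm one of `U`, up to sign. -/
structure IsModel (S : Set G) (Q : QuadraticForm (ZMod 3) W) (U : Submodule (ZMod 3) W) (f : G → W) : Prop where
  mem : ∀ a ∈ S, f a ∈ U ∧ Q (f a) = 1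
  inj : ∀ a ∈ S, ∀ b ∈ S, Pm (f a) (f b) → a = b
  surj : ∀ v ∈ U, Q v = 1 → ∃ a ∈ S, Pm (f a) v
  perp : ∀ a ∈ S, ∀ b ∈ S, a ≠ b → (Commute a b ↔ polar Q (f a) (f b) = 0)
  line : ∀ a ∈ S, ∀ b ∈ S, Pm (f (a * b * a)) (rfl3 Q (f a) (f b))

theorem polar_self_ne {x : W} (hx : Q x = 1) : polar Q x x ≠ 0 := by
  rw [polar_self', hx, mul_one]; exact two_ne

theorem IsModel.perp' {S : Set G} {U : Submodule (ZMod 3) W} {f : G → W} (h : IsModel S Q U f) {a b : G}
    (ha : a ∈ S) (hb : b ∈ S) (hp : polar Q (f a) (f b) = 0) : a ≠ b ∧ Commute a b := by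
  have hne : a ≠ b := fun e => by subst e; exact polar_self_ne (h.mem a ha).2 hp
  exact ⟨hne, (h.perp a ha b hb hne).2 hp⟩

theorem IsModel.map {S : Set G} {U U' : Submodule (ZMod 3) W} {f : G → W} (h : IsModel S Q U f) (g : OQ Q)
    (hU : ∀ v, (g : W ≃ₗ[ZMod 3] W) v ∈ U' ↔ v ∈ U) :
    IsModel S Q U' (fun a => (g : W ≃ₗ[ZMod 3] W) (f a)) where
  mem a ha := ⟨(hU _).2 (h.mem a ha).1, by rw [OQ.map_apply]; exact (h.mem a ha).2⟩
  inj a ha b hb e := h.inj a ha b hb (by
    have := Pm.map (g : W ≃ₗ[ZMod 3] W).symm e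
    simpa using this)
  surj v hv hn := by
    have hv' : (g : W ≃ₗ[ZMod 3] W).symm v ∈ U := (hU _).1 (by rwa [LinearEquiv.apply_symm_apply])
    obtain ⟨a, ha, e⟩ := h.surj _ hv' (by rw [← OQ.map_apply g, LinearEquiv.apply_symm_apply, hn])
    exact ⟨a, ha, (Pm.map (g : W ≃ₗ[ZMod 3] W) e).trans (Or.inl (LinearEquiv.apply_symm_apply _ _))⟩
  perp a ha b hb hne := by rw [OQ.map_polar]; exact h.perp a ha b hb hne
  line a ha b hb := by
    refine (Pm.map (g : W ≃ₗ[ZMod 3] W) (h.line a ha b hb)).trans (Or.inl ?_)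
    rw [rfl3, rfl3, map_sub, map_smul, OQ.map_polar]

variable {D : Set G} (hD : IsThreeTranspositionGroup D)
include hD

omit [Fact (Nat.Prime 3)] in
theorem conj_mem_nb {d x g : G} (hg : g * d * g⁻¹ = x) {y : G} (hy : y ∈ nb D x) : g⁻¹ * y * g ∈ nb D d := by
  obtain ⟨hy1, hy2, hy3⟩ := hy
  refine ⟨by simpa using hD.2.1 g⁻¹ y hy1, fun e => hy2 ?_, ?_⟩
  · rw [← hg, ← e]; group
  · have h := hy3.map (MulAut.conj g⁻¹).toMonoidHom
    simp only [MulEquiv.coe_toMonoidHom, MulAut.conj_apply, inv_inv] at h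
    rwa [show g⁻¹ * x * g = d by rw [← hg]; group] at h

theorem IsModel.conj {d x g : G} (hg : g * d * g⁻¹ = x) {U : Submodule (ZMod 3) W} {f : G → W}
    (h : IsModel (nb D d) Q U f) : IsModel (nb D x) Q U (fun a => f (g⁻¹ * a * g)) where
  mem a ha := h.mem _ (conj_mem_nb hD hg ha)
  inj a ha b hb e := by
    have := h.inj _ (conj_mem_nb hD hg ha) _ (conj_mem_nb hD hg hb) e
    exact mul_left_cancel (mul_right_cancel this)
  surj v hv hn := by
    obtain ⟨a, ha, e⟩ := h.surj v hv hn
    refine ⟨g * a * g⁻¹, ?_, by rwa [show g⁻¹ * (g * a * g⁻¹) * g = a by group]⟩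
    have hg' : g⁻¹ * x * (g⁻¹)⁻¹ = d := by rw [← hg]; group
    simpa using conj_mem_nb hD hg' ha
  perp a ha b hb hne := by
    rw [← h.perp _ (conj_mem_nb hD hg ha) _ (conj_mem_nb hD hg hb)
      (fun e => hne (mul_left_cancel (mul_right_cancel e)))]
    constructor
    · intro hc; simpa using hc.map (MulAut.conj g⁻¹).toMonoidHom
    · intro hc
      have := hc.map (MulAut.conj g).toMonoidHom
      simpa [mul_assoc] using this
  line a ha b hb := by
    have := h.line _ (conj_mem_nb hD hg ha) _ (conj_mem_nb hD hg hb)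
    rwa [show g⁻¹ * a * g * (g⁻¹ * b * g) * (g⁻¹ * a * g) = g⁻¹ * (a * b * a) * g by group] at this

omit [Fact (Nat.Prime 3)] in
theorem fold_mem_nb {d a b : G} (ha : a ∈ nb D d) (hb : b ∈ nb D d) : a * b * a ∈ nb D d := by
  have hm : a * b * a ∈ D := by
    have := hD.2.1 a b hb.1
    rwa [inv_eq hD.1 ha.1] at this
  refine ⟨hm, fun e => hb.2.1 ?_, (ha.2.2.mul_right hb.2.2).mul_right ha.2.2⟩
  calc b = a * (a * b * a) * a := by simp [mul_assoc, mul_self hD.1 ha.1, mul_self_assoc hD.1 ha.1]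
    _ = d := by rw [e, ← ha.2.2.eq, mul_assoc, mul_self hD.1 ha.1, mul_one]

omit hD
variable [FiniteDimensional (ZMod 3) W]


/-- A frame of a nondegenerate space. -/
theorem exists_coords (hQ : (polarBilin Q).Nondegenerate) {m : ℕ}
    (hm : Module.finrank (ZMod 3) W = m + 1) :
    ∃ a : Fin (m + 1) → ZMod 3, Weights a ∧ m ≤ (Finset.univ.filter fun i => a i = 1).card ∧
      (∀ i, i ≠ Fin.last m → a i = 1) ∧ ∃ e : W ≃ₗ[ZMod 3] (Fin (m + 1) → ZMod 3), ∀ u, Q u = dot a (e u) (e u) := by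
  classical
  let B : LinearMap.BilinForm (ZMod 3) W := (2 : ZMod 3) • polarBilin Q
  have hB : ∀ u w, B u w = 2 * polar Q u w := fun u w => rfl
  have hBs : B.IsSymm := ⟨fun u w => by
    show B u w = B w u
    rw [hB, hB, QuadraticMap.polar_comm]⟩
  have hBn : B.Nondegenerate := ⟨fun u hu => hQ.1 u fun w => (mul_eq_zero.1 (hu w)).resolve_left two_ne,
    fun u hu => hQ.2 u fun w => (mul_eq_zero.1 (hu w)).resolve_left two_ne⟩
  obtain ⟨b, ho, hone, hlast⟩ := exists_normal_basis two_ne not_isSquare_neg_one m B hBs hBn hm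
  refine ⟨fun i => B (b i) (b i), ?_, ?_, hone, b.equivFun, fun u => ?_⟩
  · refine ⟨fun i => ?_, fun i j hi hj => ?_⟩
    · by_cases h : i = Fin.last m
      · subst h; exact hlast
      · exact Or.inl (hone i h)
    · have key : ∀ k, B (b k) (b k) = -1 → k = Fin.last m := fun k hk => by
        by_contra h; rw [hone k h] at hk; exact one_ne_neg hk
      rw [key i hi, key j hj]
  · have : Finset.univ.erase (Fin.last m) ⊆ Finset.univ.filter fun i => B (b i) (b i) = 1 := fun i hi => by
      simp only [Finset.mem_erase, Finset.mem_univ, and_true] at hi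
      simp [hone i hi]
    refine le_trans ?_ (Finset.card_le_card this)
    simp
  · have h1 : Q u = B u u := by
      rw [hB, polar_self', ← mul_assoc, four_eq, one_mul]
    rw [h1, dot]
    conv_lhs => rw [← b.sum_equivFun u]
    simp only [map_sum, map_smul, LinearMap.sum_apply, LinearMap.smul_apply, smul_eq_mul]
    refine Finset.sum_congr rfl fun i _ => ?_
    rw [Finset.sum_eq_single i (fun j _ hj => by rw [ho _ _ hj, mul_zero]) (by simp)]
    ring

/-- Rigidity on the complement of two orthogonal vectors of norm one. -/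
theorem exists_extension (hQ : (polarBilin Q).Nondegenerate) {x e : W} (hx : Q x = 1) (he : Q e = 1)
    (hxe : polar Q x e = 0) (hdim : 6 ≤ Module.finrank (ZMod 3) W) (f : W → W)
    (hmem : ∀ v, Q v = 1 → polar Q x v = 0 → polar Q e v = 0 →
      Q (f v) = 1 ∧ polar Q x (f v) = 0 ∧ polar Q e (f v) = 0)
    (hperp : ∀ v w, Q v = 1 → polar Q x v = 0 → polar Q e v = 0 → Q w = 1 → polar Q x w = 0 → polar Q e w = 0 →
      (polar Q (f v) (f w) = 0 ↔ polar Q v w = 0))
    (hneg : ∀ v, Q v = 1 → polar Q x v = 0 → polar Q e v = 0 → Pm (f (-v)) (f v))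
    (hrefl : ∀ v w, Q v = 1 → polar Q x v = 0 → polar Q e v = 0 → Q w = 1 → polar Q x w = 0 → polar Q e w = 0 →
      Pm (f (rfl3 Q v w)) (rfl3 Q (f v) (f w))) :
    ∃ g : OQ Q, (g : W ≃ₗ[ZMod 3] W) x = x ∧ (g : W ≃ₗ[ZMod 3] W) e = e ∧
      ∀ v, Q v = 1 → polar Q x v = 0 → polar Q e v = 0 → Pm (f v) ((g : W ≃ₗ[ZMod 3] W) v) := by
  classical
  set U := perp Q x ⊓ perp Q e with hU
  have hmemU : ∀ {v}, v ∈ U ↔ polar Q x v = 0 ∧ polar Q e v = 0 := Iff.rfl
  have hex : polar Q e x = 0 := by rw [QuadraticMap.polar_comm]; exact hxe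
  set pr : W →ₗ[ZMod 3] W :=
    LinearMap.id + (polarBilin Q x).smulRight x + (polarBilin Q e).smulRight e with hpr
  have hpr' : ∀ v, pr v = v + polar Q x v • x + polar Q e v • e := fun v => by simp [hpr]
  have hprU : ∀ v, pr v ∈ U := fun v => by
    rw [hmemU, hpr']
    simp only [polar_add_right', polar_smul_right', polar_self', hx, he, hxe, hex, mul_zero, add_zero]
    exact ⟨sum_self_zero _, sum_self_zero _⟩
  have hp : ∀ a b : U, polar (Q.comp U.subtype) a b = polar Q (a : W) b := fun a b => by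
    simp only [polar, QuadraticMap.comp_apply, Submodule.subtype_apply, Submodule.coe_add]
  have key : ∀ a : U, (∀ b : U, polar Q (a : W) b = 0) → a = 0 := by
    intro a ha
    refine Subtype.ext (hQ.1 _ fun v => ?_)
    show polar Q (a : W) v = 0
    have h : polar Q (a : W) (pr v) = 0 := ha ⟨pr v, hprU v⟩
    rw [hpr', polar_add_right', polar_add_right', polar_smul_right', polar_smul_right',
      QuadraticMap.polar_comm (⇑Q) (a : W) x, QuadraticMap.polar_comm (⇑Q) (a : W) e,
      (hmemU.1 a.2).1, (hmemU.1 a.2).2] at h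
    simpa using h
  have hnd : (polarBilin (Q.comp U.subtype)).Nondegenerate :=
    ⟨fun a ha => key a fun b => by rw [← hp]; exact ha b,
      fun a ha => key a fun b => by rw [← hp, QuadraticMap.polar_comm]; exact ha b⟩
  have hUd : 4 ≤ Module.finrank (ZMod 3) U := by
    have h1 := Submodule.finrank_sup_add_finrank_inf_eq (perp Q x) (perp Q e)
    have hx' : Module.finrank (ZMod 3) (perp Q x) + 1 ≥ Module.finrank (ZMod 3) W := by
      have h : _ + Module.finrank (ZMod 3) (perp Q x) = _ :=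
        LinearMap.finrank_range_add_finrank_ker (polarBilin Q x)
      have := Submodule.finrank_le (LinearMap.range (polarBilin Q x))
      rw [Module.finrank_self] at this
      omega
    have he' : Module.finrank (ZMod 3) (perp Q e) + 1 ≥ Module.finrank (ZMod 3) W := by
      have h : _ + Module.finrank (ZMod 3) (perp Q e) = _ :=
        LinearMap.finrank_range_add_finrank_ker (polarBilin Q e)
      have := Submodule.finrank_le (LinearMap.range (polarBilin Q e))
      rw [Module.finrank_self] at this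
      omega
    have := Submodule.finrank_le (perp Q x ⊔ perp Q e)
    rw [← hU] at h1
    omega
  obtain ⟨m, hm⟩ : ∃ m, Module.finrank (ZMod 3) U = m + 1 := ⟨_, (Nat.sub_add_cancel (by omega : 1 ≤ _)).symm⟩
  obtain ⟨a, hw, hcard, hone, c, hc⟩ := exists_coords hnd hm
  have hQc : ∀ k, Q (c.symm k : W) = dot a k k := fun k => by
    have := hc (c.symm k); rwa [c.apply_symm_apply] at this
  have hpc : ∀ k l, polar Q (c.symm k : W) (c.symm l) = 2 * dot a k l := fun k l => by
    rw [← polar_diagForm]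
    simp only [polar, diagForm_apply, ← hQc, map_add, Submodule.coe_add]
  let f' : (Fin (m + 1) → ZMod 3) → (Fin (m + 1) → ZMod 3) := fun k =>
    if h : f (c.symm k : W) ∈ U then c ⟨_, h⟩ else 0
  have hfU : ∀ k, dot a k k = 1 → (c.symm (f' k) : W) = f (c.symm k : W) := by
    intro k hk
    obtain ⟨-, h1, h2⟩ := hmem _ (by rw [hQc, hk]) (hmemU.1 (c.symm k).2).1 (hmemU.1 (c.symm k).2).2
    simp only [f', dif_pos (hmemU.2 ⟨h1, h2⟩), c.symm_apply_apply]
  have hcong : ∀ {k l : Fin (m + 1) → ZMod 3}, Pm (c.symm k : W) (c.symm l : W) → Pm k l := by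
    rintro k l (h | h)
    · exact Or.inl (c.symm.injective (Subtype.ext h))
    · exact Or.inr (c.symm.injective (Subtype.ext (by rw [h, map_neg, Submodule.coe_neg])))
  have hrm : ∀ k l, (c.symm (rmap a k l) : W) = rfl3 Q (c.symm k : W) (c.symm l : W) := fun k l => by
    rw [rmap, map_add, map_smul, Submodule.coe_add, Submodule.coe_smul, rfl3, hpc]
    rw [sub_eq_add_neg, ← neg_smul, neg_two_mul']
  have hM : PointMap a f' :=
    { norm := fun k hk => by
        rw [← hQc, hfU k hk]
        exact (hmem _ (by rw [hQc, hk]) (hmemU.1 (c.symm k).2).1 (hmemU.1 (c.symm k).2).2).1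
      perp := fun k l hk hl => by
        have h := hperp _ _ (by rw [hQc, hk]) (hmemU.1 (c.symm k).2).1 (hmemU.1 (c.symm k).2).2
          (by rw [hQc, hl]) (hmemU.1 (c.symm l).2).1 (hmemU.1 (c.symm l).2).2
        rwa [← hfU k hk, ← hfU l hl, hpc, hpc, mul_eq_zero_iff_left two_ne, mul_eq_zero_iff_left two_ne] at h
      neg := fun k hk => hcong (by
        rw [hfU k hk, hfU (-k) (by rwa [dot_neg_left, dot_comm, dot_neg_left, neg_neg]), map_neg,
          Submodule.coe_neg]
        exact hneg _ (by rw [hQc, hk]) (hmemU.1 (c.symm k).2).1 (hmemU.1 (c.symm k).2).2)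
      refl := fun k l hk hl => hcong (by
        have hn : dot a (rmap a k l) (rmap a k l) = 1 := by
          rw [← hQc, hrm, apply_rfl3 (by rw [hQc, hk]), hQc, hl]
        rw [hfU _ hn, hrm, hrm, hfU k hk, hfU l hl]
        exact hrefl _ _ (by rw [hQc, hk]) (hmemU.1 (c.symm k).2).1 (hmemU.1 (c.symm k).2).2
          (by rw [hQc, hl]) (hmemU.1 (c.symm l).2).1 (hmemU.1 (c.symm l).2).2) }
  obtain ⟨g, hg⟩ : ∃ g : OQ (diagForm a), ∀ v, dot a v v = 1 →
      Pm (f' v) ((g : (Fin (m + 1) → ZMod 3) ≃ₗ[ZMod 3] _) v) := by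
    by_cases h4 : 4 ≤ m
    · exact exists_isometry hM hw (by omega)
    obtain rfl : m = 3 := by omega
    refine exists_isometry_of_signs hM hw fun f'' h'' hfix => exists_signs_four ?_ h'' hfix
    have hl : ∀ i : Fin 4, i ≠ 3 → a i = 1 := fun i hi => hone i hi
    refine (hw.1 3).imp (fun e0 => ?_) (fun e0 => ?_) <;> funext i <;> fin_cases i
    exacts [hl 0 (by decide), hl 1 (by decide), hl 2 (by decide), e0,
      hl 0 (by decide), hl 1 (by decide), hl 2 (by decide), e0]
  let g' : W →ₗ[ZMod 3] W :=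
    U.subtype ∘ₗ c.symm.toLinearMap ∘ₗ
      ((g : (Fin (m + 1) → ZMod 3) ≃ₗ[ZMod 3] (Fin (m + 1) → ZMod 3)).toLinearMap) ∘ₗ c.toLinearMap ∘ₗ
        (pr.codRestrict U hprU) + (LinearMap.id - pr)
  have hg' : ∀ v, g' v = (c.symm ((g : (Fin (m + 1) → ZMod 3) ≃ₗ[ZMod 3] _) (c ⟨pr v, hprU v⟩)) : W) + (v - pr v) :=
    fun v => rfl
  have hcross : ∀ (r : U) v, polar Q (r : W) (v - pr v) = 0 := fun r v => by
    rw [hpr', show v - (v + polar Q x v • x + polar Q e v • e) = -(polar Q x v • x + polar Q e v • e) by abel,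
      QuadraticMap.polar_neg_right, polar_add_right', polar_smul_right', polar_smul_right',
      QuadraticMap.polar_comm (⇑Q) (r : W) x, QuadraticMap.polar_comm (⇑Q) (r : W) e,
      (hmemU.1 r.2).1, (hmemU.1 r.2).2]
    ring
  have hpres : ∀ v, Q (g' v) = Q v := fun v => by
    rw [hg', apply_add, hcross, hQc, ← diagForm_apply, OQ.map_apply, diagForm_apply, ← hc,
      QuadraticMap.comp_apply, Submodule.subtype_apply]
    conv_rhs => rw [show v = pr v + (v - pr v) by abel, apply_add, hcross ⟨pr v, hprU v⟩ v]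
  have fixout : ∀ v, pr v = 0 → g' v = v := fun v h0 => by
    have e0 : (⟨pr v, hprU v⟩ : U) = 0 := Subtype.ext h0
    rw [hg', e0, map_zero, map_zero, map_zero, ZeroMemClass.coe_zero, h0, zero_add, sub_zero]
  refine ⟨ofPreserves hQ g' hpres, ?_, ?_, fun v hv hvx hve => ?_⟩
  · rw [← LinearEquiv.coe_coe, coe_ofPreserves]
    exact fixout x (by rw [hpr', polar_self', hx, hex, mul_one, zero_smul, add_zero]; exact three_smul' x)
  · rw [← LinearEquiv.coe_coe, coe_ofPreserves]
    exact fixout e (by rw [hpr', polar_self', he, hxe, mul_one, zero_smul, add_zero]; exact three_smul' e)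
  · have hpv : pr v = v := by rw [hpr', hvx, hve, zero_smul, zero_smul, add_zero, add_zero]
    rw [← LinearEquiv.coe_coe, coe_ofPreserves, hg']
    have e1 : (⟨pr v, hprU v⟩ : U) = ⟨v, hmemU.2 ⟨hvx, hve⟩⟩ := Subtype.ext hpv
    rw [e1, hpv, sub_self, add_zero]
    set k := c ⟨v, hmemU.2 ⟨hvx, hve⟩⟩ with hk
    have hkk : (c.symm k : W) = v := by rw [hk, c.symm_apply_apply]
    have hkn : dot a k k = 1 := by rw [← hQc, hkk, hv]
    have h := Pm.map U.subtype (Pm.map c.symm.toLinearMap (hg k hkn))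
    simp only [Submodule.subtype_apply, LinearEquiv.coe_coe] at h
    rwa [hfU k hkn, hkk] at h

end CfsgLib.ThreeTrans.Refl3
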