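import Cfsg.Agent.Lib.ThreeTrans.Refl3.Closure
import Cfsg.Agent.Lib.Classical.Quad.Sym

/-!
A map of the vectors of norm one up to sign that respects orthogonality and the reflections is induced
by an isometry (owner: helper6).
-/

set_option autoImplicit false

namespace CfsgLib.ThreeTrans.Refl3

open CfsgLib.Classical.Quad
open QuadraticMap (polar polarBilin)

/-- Equality up to sign. -/
def Pm {V : Type*} [Neg V] (v w : V) : Prop := v = w ∨ v = -w

theorem Pm.refl {V : Type*} [Neg V] (v : V) : Pm v v := Or.inl rfl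

theorem Pm.symm {V : Type*} [InvolutiveNeg V] {v w : V} (h : Pm v w) : Pm w v := by
  rcases h with rfl | rfl
  exacts [Or.inl rfl, Or.inr (neg_neg _).symm]

theorem Pm.trans {V : Type*} [InvolutiveNeg V] {u v w : V} (h : Pm u v) (h' : Pm v w) : Pm u w := by
  rcases h with rfl | rfl <;> rcases h' with rfl | rfl <;> simp [Pm]

theorem Pm.map {V W F : Type*} [AddGroup V] [AddGroup W] [FunLike F V W] [AddMonoidHomClass F V W]
    (g : F) {v w : V} (h : Pm v w) : Pm (g v) (g w) := by
  rcases h with rfl | rfl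
  exacts [Or.inl rfl, Or.inr (map_neg g w)]

variable {M : ℕ}

/-- The diagonal form as a quadratic form. -/
def diagForm (a : Fin M → ZMod 3) : QuadraticForm (ZMod 3) (Fin M → ZMod 3) :=
  QuadraticMap.weightedSumSquares (ZMod 3) a

theorem diagForm_apply (a v : Fin M → ZMod 3) : diagForm a v = dot a v v := by
  simp [diagForm, dot, QuadraticMap.weightedSumSquares_apply, mul_assoc]

theorem polar_diagForm (a v w : Fin M → ZMod 3) : polar (diagForm a) v w = 2 * dot a v w := by
  rw [QuadraticMap.polar, diagForm_apply, diagForm_apply, diagForm_apply, dot_add_left,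
    dot_comm a v (v + w), dot_comm a w (v + w), dot_add_left, dot_add_left, dot_comm a w v]
  ring

theorem nondeg_diagForm {a : Fin M → ZMod 3} (ha : ∀ i, a i ≠ 0) : (polarBilin (diagForm a)).Nondegenerate := by
  have h2 : (2 : ZMod 3) ≠ 0 := by decide
  have h : ∀ v, (∀ w, polar (diagForm a) v w = 0) → v = 0 := fun v hv => funext fun i => by
    have hvi := hv (Pi.single i 1)
    rw [polar_diagForm, dot_single_right, mul_one] at hvi
    haveI : Fact (Nat.Prime 3) := ⟨Nat.prime_three⟩
    simpa [ha i, h2] using hvi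
  exact ⟨fun v hv => h v hv, fun v hv => h v fun w => by rw [QuadraticMap.polar_comm]; exact hv w⟩

/-- A map of the vectors of norm one, up to sign, respecting orthogonality and reflections. -/
structure PointMap (a : Fin M → ZMod 3) (f : (Fin M → ZMod 3) → (Fin M → ZMod 3)) : Prop where
  norm : ∀ v, dot a v v = 1 → dot a (f v) (f v) = 1
  perp : ∀ v w, dot a v v = 1 → dot a w w = 1 → (dot a (f v) (f w) = 0 ↔ dot a v w = 0)
  neg : ∀ v, dot a v v = 1 → Pm (f (-v)) (f v)
  refl : ∀ x y, dot a x x = 1 → dot a y y = 1 → Pm (f (rmap a x y)) (rmap a (f x) (f y))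

theorem dot_neg_left (a x y : Fin M → ZMod 3) : dot a (-x) y = -dot a x y := by
  simp [dot, Finset.sum_neg_distrib]

theorem rmap_pm {a x x' y y' : Fin M → ZMod 3} (hx : Pm x x') (hy : Pm y y') :
    Pm (rmap a x y) (rmap a x' y') := by
  rcases hx with rfl | rfl <;> rcases hy with rfl | rfl
  · exact Pm.refl _
  · exact Or.inr (by rw [rmap, rmap, dot_neg_left]; module)
  · exact Or.inl (by rw [rmap, rmap, dot_comm a y (-x'), dot_neg_left, dot_comm a x' y]; module)
  · exact Or.inr (by
      rw [rmap, rmap, dot_neg_left, dot_comm a y' (-x'), dot_neg_left, dot_comm a x' y']; module)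

/-- Scaling the coordinates by signs. -/
def diagMap (s : Fin M → ZMod 3) : (Fin M → ZMod 3) →ₗ[ZMod 3] (Fin M → ZMod 3) where
  toFun v := s * v
  map_add' := mul_add s
  map_smul' t v := by simp [mul_smul_comm]

theorem pm_of_prop {v s : Fin M → ZMod 3} {t : ZMod 3} (ht : t ≠ 0) (h : ∀ i, v i = t * s i) : Pm v s := by
  rcases sign_cases t ht with rfl | rfl
  · exact Or.inl (funext fun i => by rw [h i, one_mul])
  · exact Or.inr (funext fun i => by rw [h i, Pi.neg_apply, neg_one_mul])

theorem two_ne : (2 : ZMod 3) ≠ 0 := by decide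

theorem pm_ne : (1 : ZMod 3) ≠ 0 ∧ (-1 : ZMod 3) ≠ 0 := by decide

theorem tri_zero : ∀ x y z : ZMod 3, x ≠ 0 → y ≠ 0 → z ≠ 0 → x + y + z = 0 → y = x ∧ z = x := by decide

theorem tri_ne : ∀ x y : ZMod 3, x ≠ 0 → y ≠ 0 → x + y ≠ 0 → y = x := by decide

theorem two_zero : ∀ x y : ZMod 3, x ≠ 0 → x - y = 0 → y = x := by decide

variable {a : Fin M → ZMod 3}

/-- The vectors fixed up to sign by a point map are closed. -/
theorem closed_fixed {f : (Fin M → ZMod 3) → (Fin M → ZMod 3)} (hf : PointMap a f) :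
    Closed a fun v => dot a v v = 1 → Pm (f v) v :=
  { neg := fun v h hn => by
      have hn' : dot a v v = 1 := by rwa [dot_neg_left, dot_comm, dot_neg_left, neg_neg] at hn
      exact ((hf.neg v hn').trans (h hn')).trans (Or.inr (neg_neg v).symm)
    refl := fun x y hx hy nx ny _ => (hf.refl x y nx ny).trans (rmap_pm (hx nx) (hy ny)) }

/-- Point maps fixing the coordinate vectors are sign changes. -/
theorem exists_signs {f : (Fin M → ZMod 3) → (Fin M → ZMod 3)} (hf : PointMap a f) (hw : Weights a)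
    (hcard : 4 ≤ (Finset.univ.filter fun i => a i = 1).card)
    (hfix : ∀ i, a i = 1 → Pm (f (Pi.single i 1)) (Pi.single i 1)) :
    ∃ s : Fin M → ZMod 3, (∀ i, s i * s i = 1) ∧ ∀ v, dot a v v = 1 → Pm (f v) (s * v) := by
  classical
  set I := Finset.univ.filter fun i => a i = 1 with hI
  obtain ⟨U, hUI, hU⟩ := Finset.exists_subset_card_eq hcard
  obtain ⟨i₀, i₁, i₂, i₃, h01, h02, h03, h12, h13, h23, rfl⟩ := Finset.card_eq_four.1 hU
  have hone : ∀ i ∈ ({i₀, i₁, i₂, i₃} : Finset (Fin M)), a i = 1 := fun i hi =>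
    (Finset.mem_filter.1 (hUI hi)).2
  have a0 := hone i₀ (by simp); have a1 := hone i₁ (by simp)
  have a2 := hone i₂ (by simp); have a3 := hone i₃ (by simp)
  have supp : ∀ v, dot a v v = 1 → ∀ i, a i = 1 → (f v i = 0 ↔ v i = 0) := fun v hv i hi => by
    have hs : dot a (Pi.single i 1) (Pi.single i 1) = 1 := by simp [dot_single_left, hi]
    have h := hf.perp v (Pi.single i 1) hv hs
    rcases hfix i hi with e | e <;> rw [e] at h
    · simpa [dot_single_right, hi] using h
    · rw [dot_comm, dot_neg_left, dot_comm] at h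
      simpa [dot_single_right, hi] using h
  -- the quadruples
  set B : Finset (Fin M) := {i₀, i₁, i₂} with hB
  set u : Fin M → (Fin M → ZMod 3) := fun l => f (ind {i₀, i₁, i₂, l}) with hu
  have hq1 : ∀ l, a l = 1 → ∀ i ∈ ({i₀, i₁, i₂, l} : Finset (Fin M)), a i = 1 := by
    intro l hl i hi; simp at hi; rcases hi with rfl | rfl | rfl | rfl <;> assumption
  have hqn : ∀ l, a l = 1 → l ∉ B → dot a (ind {i₀, i₁, i₂, l}) (ind {i₀, i₁, i₂, l}) = 1 := fun l hl hlB =>
    norm_quad (hq1 l hl) (by simp [hB] at hlB; simp [h01, h02, h12, Ne.symm hlB.1, Ne.symm hlB.2.1, Ne.symm hlB.2.2])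
  have husupp : ∀ l, a l = 1 → l ∉ B → ∀ i, u l i = 0 ↔ i ∉ ({i₀, i₁, i₂, l} : Finset (Fin M)) := by
    intro l hl hlB
    have hin : ∀ i, a i = 1 → (u l i = 0 ↔ i ∉ ({i₀, i₁, i₂, l} : Finset (Fin M))) := fun i hi => by
      rw [hu, supp _ (hqn l hl hlB) i hi]; simp [ind]
    intro i
    rcases hw.1 i with hi | hi
    · exact hin i hi
    · have hni : i ∉ ({i₀, i₁, i₂, l} : Finset (Fin M)) := fun hm => by
        have := hq1 l hl i hm; rw [hi] at this; exact absurd this (by decide)
      refine iff_of_true ?_ hni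
      have hn := hf.norm _ (hqn l hl hlB)
      change dot a (u l) (u l) = 1 at hn
      rw [dot, ← Finset.sum_subset (Finset.subset_univ (insert i {i₀, i₁, i₂, l})) (fun t _ ht => by
          simp only [Finset.mem_insert, not_or] at ht
          rcases hw.1 t with e | e
          · rw [(hin t e).2 (by simpa using ht.2)]; ring
          · exact absurd (hw.2 t i e hi) ht.1),
        Finset.sum_insert hni, Finset.sum_congr rfl (g := fun _ => (1 : ZMod 3)) (fun t ht => by
          rw [hq1 l hl t ht, one_mul]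
          exact sq_one _ fun e => (hin t (hq1 l hl t ht)).1 e ht)] at hn
      simp [hB] at hlB
      simp [h01, h02, h12, Ne.symm hlB.1, Ne.symm hlB.2.1, Ne.symm hlB.2.2, hi] at hn
      revert hn
      generalize u l i = x
      revert x; decide
  have hu0 : ∀ l, a l = 1 → l ∉ B → ∀ i ∈ ({i₀, i₁, i₂, l} : Finset (Fin M)), u l i ≠ 0 := fun l hl hlB i hi e =>
    (husupp l hl hlB i).1 e hi
  have hi₃ : i₃ ∉ B := by simp [hB, Ne.symm h03, Ne.symm h13, Ne.symm h23]
  set s₀ : Fin M → ZMod 3 := fun i => if i ∈ B then u i₃ i * u i₃ i₀ else u i i * u i i₀ with hs₀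
  -- every quadruple has the signs of the first one on `B`
  have hrel : ∀ l, a l = 1 → l ∉ B → ∀ i ∈ B, u l i * u l i₀ = u i₃ i * u i₃ i₀ := by
    intro l hl hlB i hi
    by_cases hl3 : l = i₃
    · rw [hl3]
    have h := (hf.perp _ _ (hqn l hl hlB) (hqn i₃ a3 hi₃)).2 (by
      rw [dot_ind, Finset.sum_congr rfl (g := fun t => if t ∈ B then 1 else 0) fun t ht => by
        rw [hq1 i₃ a3 t ht, one_mul, ind_apply]
        simp only [hB, Finset.mem_insert, Finset.mem_singleton] at ht ⊢
        rcases ht with rfl | rfl | rfl | rfl <;>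
          simp [h03.symm, h13.symm, h23.symm, Ne.symm hl3]]
      rw [Finset.sum_insert (by simp [h01, h02, h03]), Finset.sum_insert (by simp [h12, h13]),
        Finset.sum_insert (by simp [h23]), Finset.sum_singleton]
      simp [hB, h03.symm, h13.symm, h23.symm]
      decide)
    change dot a (u l) (u i₃) = 0 at h
    rw [dot, ← Finset.sum_subset (Finset.subset_univ B) (fun t _ ht => by
        by_cases e : t = l
        · subst e
          rw [(husupp i₃ a3 hi₃ t).2 (by simp [hB] at ht; simp [ht, hl3]), mul_zero]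
        · rw [(husupp l hl hlB t).2 (by simp [hB] at ht; simp [ht, e]), mul_zero, zero_mul])] at h
    simp [hB, h01, h02, h12, a0, a1, a2, ← add_assoc] at h
    have n : ∀ t ∈ B, u l t ≠ 0 ∧ u i₃ t ≠ 0 := fun t ht =>
      ⟨hu0 l hl hlB t (by simp [hB] at ht; simp; tauto), hu0 i₃ a3 hi₃ t (by simp [hB] at ht; simp; tauto)⟩
    have n0 := n i₀ (by simp [hB]); have n1 := n i₁ (by simp [hB]); have n2 := n i₂ (by simp [hB])
    obtain ⟨e1, e2⟩ := tri_zero _ _ _ (mul_ne_zero n0.1 n0.2) (mul_ne_zero n1.1 n1.2) (mul_ne_zero n2.1 n2.2) h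
    have key : u l i * u i₃ i = u l i₀ * u i₃ i₀ := by
      simp [hB] at hi; rcases hi with rfl | rfl | rfl
      exacts [rfl, e1, e2]
    have ni := n i hi
    linear_combination (u i₃ i * u l i₀) * key - (u l i * u l i₀) * sq_one _ ni.2 + (u i₃ i * u i₃ i₀) * sq_one _ n0.1
  have hs₀B : ∀ l, a l = 1 → l ∉ B → ∀ i ∈ ({i₀, i₁, i₂, l} : Finset (Fin M)), s₀ i = u l i * u l i₀ := by
    intro l hl hlB i hi
    by_cases hiB : i ∈ B
    · simp only [hs₀, if_pos hiB]; exact (hrel l hl hlB i hiB).symm
    · obtain rfl : i = l := by simp [hB] at hiB; simp at hi; tauto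
      simp only [hs₀, if_neg hiB]
  have hs₀ne : ∀ i, a i = 1 → s₀ i ≠ 0 := fun i hi => by
    by_cases hiB : i ∈ B
    · rw [hs₀B i₃ a3 hi₃ i (by simp [hB] at hiB; simp; tauto)]
      exact mul_ne_zero (hu0 i₃ a3 hi₃ i (by simp [hB] at hiB; simp; tauto)) (hu0 i₃ a3 hi₃ i₀ (by simp))
    · rw [hs₀B i hi hiB i (by simp)]
      exact mul_ne_zero (hu0 i hi hiB i (by simp)) (hu0 i hi hiB i₀ (by simp))
  -- the triples
  set w : Fin M → Fin M → (Fin M → ZMod 3) := fun l j => f (ind {i₀, l, j}) with hwdef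
  have hwd : ∀ l j, a l = 1 → l ≠ i₀ → a j = -1 →
      (∀ i, w l j i = 0 ↔ i ∉ ({i₀, l, j} : Finset (Fin M))) ∧ w l j l = w l j i₀ * s₀ l := by
    intro l j hl hl0 hj
    have hn' := norm_triple (a := a) a0 hl hj (Ne.symm hl0)
    have h0j : i₀ ≠ j := fun e => by rw [e, hj] at a0; exact absurd a0 (by decide)
    have hlj : l ≠ j := fun e => by rw [e, hj] at hl; exact absurd hl (by decide)
    have hin : ∀ i, a i = 1 → (w l j i = 0 ↔ i ∉ ({i₀, l, j} : Finset (Fin M))) := fun i hi => by
      rw [hwdef, supp _ hn' i hi]; simp [ind]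
    have hwj : w l j j ≠ 0 := by
      intro e
      have hn := hf.norm _ hn'
      change dot a (w l j) (w l j) = 1 at hn
      rw [dot, ← Finset.sum_subset (Finset.subset_univ {i₀, l}) (fun t _ ht => by
          rcases hw.1 t with e' | e'
          · rw [(hin t e').2 ?_]; · ring
            simp at ht; simp [ht]; exact fun h => by rw [h, hj] at e'; exact absurd e' (by decide)
          · rw [hw.2 t j e' hj, e]; ring)] at hn
      have x0 := sq_one _ fun e => (hin i₀ a0).1 e (by simp)
      have xl := sq_one _ fun e => (hin l hl).1 e (by simp)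
      simp [Ne.symm hl0, a0, hl, x0, xl] at hn
    have hall : ∀ i, w l j i = 0 ↔ i ∉ ({i₀, l, j} : Finset (Fin M)) := fun i => by
      rcases hw.1 i with hi | hi
      · exact hin i hi
      · rw [hw.2 i j hi hj]; exact iff_of_false hwj (by simp)
    refine ⟨hall, ?_⟩
    obtain ⟨k, hk, hlk, hkB, hkl⟩ : ∃ k, a k = 1 ∧ l ∈ ({i₀, i₁, i₂, k} : Finset (Fin M)) ∧ k ∉ B ∧ True := by
      by_cases hlB : l ∈ B
      · exact ⟨i₃, a3, by simp [hB] at hlB; simp; tauto, hi₃, trivial⟩
      · exact ⟨l, hl, by simp, hlB, trivial⟩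
    have hjk : j ∉ ({i₀, i₁, i₂, k} : Finset (Fin M)) := fun e => by
      have := hq1 k hk j e; rw [hj] at this; exact absurd this (by decide)
    have h := (hf.perp _ _ hn' (hqn k hk hkB)).not.2 (by
      rw [dot_comm, dot_ind, Finset.sum_insert (by simp [Ne.symm hl0, h0j]), Finset.sum_insert (by simp [hlj]),
        Finset.sum_singleton, ind_apply, ind_apply, ind_apply, if_pos (Finset.mem_insert_self _ _),
        if_pos hlk, if_neg hjk, a0, hl, hj]
      decide)
    change dot a (w l j) (u k) ≠ 0 at h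
    rw [dot, ← Finset.sum_subset (Finset.subset_univ {i₀, l}) (fun t _ ht => by
        by_cases e : t = j
        · rw [e, (husupp k hk hkB j).2 hjk, mul_zero]
        · rw [(hall t).2 (by simp at ht; simp [ht, e]), mul_zero, zero_mul])] at h
    simp [Ne.symm hl0, a0, hl] at h
    have nl : u k l ≠ 0 := hu0 k hk hkB l hlk
    have n0 : u k i₀ ≠ 0 := hu0 k hk hkB i₀ (by simp)
    have wl : w l j l ≠ 0 := fun e => (hall l).1 e (by simp)
    have w0 : w l j i₀ ≠ 0 := fun e => (hall i₀).1 e (by simp)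
    have e := tri_ne _ _ (mul_ne_zero w0 n0) (mul_ne_zero wl nl) h
    rw [hs₀B k hk hkB l hlk]
    linear_combination (u k l) * e - (w l j l) * sq_one _ nl
  set s : Fin M → ZMod 3 := fun i => if a i = 1 then s₀ i else w i₁ i i * w i₁ i i₀ with hs
  have hsne : ∀ i, s i ≠ 0 := fun i => by
    by_cases hi : a i = 1
    · simp only [hs, if_pos hi]; exact hs₀ne i hi
    · simp only [hs, if_neg hi]
      have hi' := (hw.1 i).resolve_left hi
      exact mul_ne_zero (fun e => ((hwd i₁ i a1 h01.symm hi').1 i).1 e (by simp))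
        (fun e => ((hwd i₁ i a1 h01.symm hi').1 i₀).1 e (by simp))
  refine ⟨s, fun i => sq_one _ (hsne i), ?_⟩
  -- the corrected map fixes the seeds
  set f' : (Fin M → ZMod 3) → (Fin M → ZMod 3) := fun v => s * f v with hf'
  have hdot : ∀ x y, dot a (s * x) (s * y) = dot a x y := fun x y =>
    Finset.sum_congr rfl fun i _ => by
      simp only [Pi.mul_apply]
      linear_combination (a i * x i * y i) * sq_one _ (hsne i)
  have hss : ∀ x : Fin M → ZMod 3, s * (s * x) = x := fun x => funext fun i => by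
    simp only [Pi.mul_apply]; rw [← mul_assoc, sq_one _ (hsne i), one_mul]
  have hfix' : PointMap a f' :=
    { norm := fun v hv => by rw [hf']; simp only; rw [hdot]; exact hf.norm v hv
      perp := fun v z hv hz => by rw [hf']; simp only; rw [hdot]; exact hf.perp v z hv hz
      neg := fun v hv => (hf.neg v hv).map (diagMap s)
      refl := fun x y hx hy => by
        refine ((hf.refl x y hx hy).map (diagMap s)).trans (Or.inl ?_)
        show s * rmap a (f x) (f y) = rmap a (s * f x) (s * f y)
        rw [rmap, rmap, hdot, mul_add, mul_smul_comm] }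
  have htriple : ∀ l j, a l = 1 → l ≠ i₀ → a j = -1 → ∀ i, w l j i = w l j i₀ * (s i * ind {i₀, l, j} i) := by
    intro l j hl hl0 hj i
    have h0j : i₀ ≠ j := fun e => by rw [e, hj] at a0; exact absurd a0 (by decide)
    by_cases hi : i ∈ ({i₀, l, j} : Finset (Fin M))
    · rw [ind_apply, if_pos hi, mul_one]
      simp only [Finset.mem_insert, Finset.mem_singleton] at hi
      rcases hi with rfl | rfl | rfl
      · simp only [hs, if_pos a0]
        rw [hs₀B i₃ a3 hi₃ i (by simp), sq_one _ (hu0 i₃ a3 hi₃ i (by simp)), mul_one]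
      · simp only [hs, if_pos hl]; exact (hwd i j hl hl0 hj).2
      · simp only [hs, hj, if_neg (show (-1 : ZMod 3) ≠ 1 by decide)]
        have A := (hwd l i hl hl0 hj).1
        have B' := (hwd i₁ i a1 h01.symm hj).1
        have w0 : w l i i₀ ≠ 0 := fun e => (A i₀).1 e (by simp)
        have v0 : w i₁ i i₀ ≠ 0 := fun e => (B' i₀).1 e (by simp)
        have vi : w i₁ i i ≠ 0 := fun e => (B' i).1 e (by simp)
        by_cases hl1 : l = i₁
        · subst hl1; linear_combination (-(w l i i)) * sq_one _ w0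
        have hli : l ≠ i := fun e => by rw [e, hj] at hl; exact absurd hl (by decide)
        have h := (hf.perp _ _ (norm_triple (a := a) a0 hl hj (Ne.symm hl0))
          (norm_triple (a := a) a0 a1 hj h01)).2 (by
            rw [dot_ind]
            have h1i : i₁ ≠ i := fun e => by rw [e, hj] at a1; exact absurd a1 (by decide)
            simp [ind, a0, a1, hj, h01, h0j, h1i, Ne.symm hl1, h01.symm])
        change dot a (w l i) (w i₁ i) = 0 at h
        rw [dot, ← Finset.sum_subset (Finset.subset_univ {i₀, i}) (fun t _ ht => by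
            by_cases e : t = l
            · rw [e, (B' l).2 (by simp [hl0, hl1, hli]), mul_zero]
            · rw [(A t).2 (by simp at ht; simp [ht, e]), mul_zero, zero_mul])] at h
        simp [h0j, a0, hj, ← sub_eq_add_neg] at h
        have e := two_zero _ _ (mul_ne_zero w0 v0) h
        linear_combination (w i₁ i i) * e - (w l i i) * sq_one _ vi
    · rw [ind_apply, if_neg hi, mul_zero, mul_zero, ((hwd l j hl hl0 hj).1 i).2 hi]
  have hclosed := closed_fixed hfix'
  have back : ∀ {v : Fin M → ZMod 3} {r : Fin M → ZMod 3}, r = f v → Pm r (s * v) → Pm (f' v) v := fun h1 h2 => by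
    have := Pm.map (diagMap s) (h1 ▸ h2)
    exact this.trans (Or.inl (hss _))
  refine fun v hv => ?_
  have := reach hclosed (i₀ := i₀) (i₁ := i₁) (i₂ := i₂)
    ⟨hw, a0, a1, a2, h01, h02, h12, fun i hi _ => back rfl ?_, fun l hl hlB _ => back rfl ?_,
      fun l j hl hl0 hj _ => back rfl ?_⟩ v hv hv
  · exact (this.map (diagMap s)).symm.trans (Or.inl (hss _)) |>.symm
  · refine (hfix i hi).trans ?_
    refine Pm.symm (pm_of_prop (t := s i) (hsne i) fun j => ?_)
    rcases eq_or_ne j i with rfl | hne <;> simp [*]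
  · refine pm_of_prop (t := u l i₀) (hu0 l hl hlB i₀ (by simp)) fun i => ?_
    change u l i = _
    by_cases hi : i ∈ ({i₀, i₁, i₂, l} : Finset (Fin M))
    · rw [Pi.mul_apply, ind_apply, if_pos hi, mul_one]
      simp only [hs, if_pos (hq1 l hl i hi)]
      rw [hs₀B l hl hlB i hi]
      linear_combination (-(u l i)) * sq_one _ (hu0 l hl hlB i₀ (by simp))
    · rw [Pi.mul_apply, ind_apply, if_neg hi, mul_zero, mul_zero]
      exact (husupp l hl hlB i).2 hi
  · exact pm_of_prop (fun e => ((hwd l j hl hl0 hj).1 i₀).1 e (by simp)) (htriple l j hl hl0 hj)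

/-- A point map of a diagonal form is induced by an isometry, if those fixing the coordinates are sign changes. -/
theorem exists_isometry_of_signs [Fact (Nat.Prime 3)] {f : (Fin M → ZMod 3) → (Fin M → ZMod 3)} (hf : PointMap a f)
    (hw : Weights a)
    (hsigns : ∀ f' : (Fin M → ZMod 3) → (Fin M → ZMod 3), PointMap a f' →
      (∀ i, a i = 1 → Pm (f' (Pi.single i 1)) (Pi.single i 1)) →
      ∃ s : Fin M → ZMod 3, (∀ i, s i * s i = 1) ∧ ∀ v, dot a v v = 1 → Pm (f' v) (s * v)) :
    ∃ g : OQ (diagForm a), ∀ v, dot a v v = 1 → Pm (f v) ((g : (Fin M → ZMod 3) ≃ₗ[ZMod 3] _) v) := by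
  classical
  have ha : ∀ i, a i ≠ 0 := fun i => by
    rcases hw.1 i with e | e <;> rw [e]
    exacts [pm_ne.1, pm_ne.2]
  let X : Submodule (ZMod 3) (Fin M → ZMod 3) :=
    { carrier := {v | ∀ i, a i ≠ 1 → v i = 0}
      add_mem' := fun hv hz i hi => by simp [hv i hi, hz i hi]
      zero_mem' := fun i _ => rfl
      smul_mem' := fun t v hv i hi => by simp [hv i hi] }
  let φ₀ := Fintype.linearCombination (ZMod 3) fun i => f (Pi.single i 1)
  have hφ₀ : ∀ v, φ₀ v = ∑ i, v i • f (Pi.single i 1) := fun v => Fintype.linearCombination_apply _ _ v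
  have hs : ∀ i, a i = 1 → dot a (Pi.single i 1) (Pi.single i 1) = 1 := fun i hi => by
    simp [dot_single_left, hi]
  have hdd : ∀ v ∈ X, ∀ z ∈ X, dot a (φ₀ v) (φ₀ z) = dot a v z := by
    intro v hv z hz
    have hl : ∀ (c : Fin M → ZMod 3) (y : Fin M → ZMod 3),
        dot a (∑ i, c i • f (Pi.single i 1)) y = ∑ i, c i * dot a (f (Pi.single i 1)) y := by
      intro c y
      simp only [dot, Finset.sum_apply, Pi.smul_apply, smul_eq_mul, Finset.mul_sum, Finset.sum_mul]
      rw [Finset.sum_comm]
      exact Finset.sum_congr rfl fun _ _ => Finset.sum_congr rfl fun _ _ => by ring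
    rw [hφ₀, hφ₀, hl]
    refine Finset.sum_congr rfl fun i _ => ?_
    rw [dot_comm, hl]
    by_cases hi : a i = 1
    · rw [Finset.sum_eq_single i]
      · rw [hf.norm _ (hs i hi), hi]; ring
      · intro j _ hne
        by_cases hj : a j = 1
        · rw [(hf.perp _ _ (hs j hj) (hs i hi)).2 (by simp [dot_single_left, hne]), mul_zero]
        · rw [hz j hj, zero_mul]
      · simp
    · rw [hv i hi]; ring
  obtain ⟨g₀, hg₀⟩ := witt (nondeg_diagForm ha) X (φ₀.domRestrict X) (by
      rw [injective_iff_map_eq_zero]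
      intro v hv
      refine Subtype.ext (funext fun i => ?_)
      by_cases hi : a i = 1
      · have hsX : Pi.single i 1 ∈ X := fun j hj =>
          Pi.single_eq_of_ne (fun e : j = i => hj (e ▸ hi)) 1
        have h := hdd v v.2 _ hsX
        change φ₀ (v : Fin M → ZMod 3) = 0 at hv
        rw [hv, dot_single_right, hi] at h
        simpa [dot] using h.symm
      · exact v.2 i hi)
    (fun v => by rw [diagForm_apply, diagForm_apply]; exact hdd v v.2 v v.2)
  set g := (g₀ : (Fin M → ZMod 3) ≃ₗ[ZMod 3] (Fin M → ZMod 3)) with hg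
  have hdot : ∀ x y, dot a (g.symm x) (g.symm y) = dot a x y := fun x y => by
    have h := OQ.map_polar g₀ (g.symm x) (g.symm y)
    rw [polar_diagForm, polar_diagForm, ← hg, g.apply_symm_apply, g.apply_symm_apply] at h
    exact (mul_left_cancel₀ two_ne h).symm
  have hf' : PointMap a fun v => g.symm (f v) :=
    { norm := fun v hv => by rw [hdot]; exact hf.norm v hv
      perp := fun v z hv hz => by rw [hdot]; exact hf.perp v z hv hz
      neg := fun v hv => (hf.neg v hv).map g.symm
      refl := fun x y hx hy => by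
        refine ((hf.refl x y hx hy).map g.symm).trans (Or.inl ?_)
        rw [rmap, rmap, hdot, map_add, map_smul] }
  have hfix : ∀ i, a i = 1 → Pm (g.symm (f (Pi.single i 1))) (Pi.single i 1) := fun i hi => Or.inl (by
    have hsX : Pi.single i 1 ∈ X := fun j hj =>
      Pi.single_eq_of_ne (fun e : j = i => hj (e ▸ hi)) 1
    rw [LinearEquiv.symm_apply_eq, hg, hg₀ ⟨_, hsX⟩]
    simp [φ₀, Fintype.linearCombination_apply_single])
  obtain ⟨s, hs1, hsf⟩ := hsigns _ hf' hfix
  refine ⟨g₀ * ofPreserves (nondeg_diagForm ha) (diagMap s) (fun v => ?_), fun v hv => ?_⟩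
  · rw [diagForm_apply, diagForm_apply]
    refine Finset.sum_congr rfl fun i _ => ?_
    show a i * (s i * v i) * (s i * v i) = a i * v i * v i
    linear_combination (a i * v i * v i) * hs1 i
  · refine (Pm.map g (hsf v hv)).symm.trans (Or.inl (g.apply_symm_apply _)) |>.symm.trans (Or.inl ?_)
    show g (s * v) = g ((ofPreserves _ (diagMap s) _ : (Fin M → ZMod 3) ≃ₗ[ZMod 3] _) v)
    exact congrArg g (LinearMap.congr_fun (coe_ofPreserves _ (diagMap s) _) v).symm

/-- A point map of a diagonal form is induced by an isometry. -/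
theorem exists_isometry [Fact (Nat.Prime 3)] {f : (Fin M → ZMod 3) → (Fin M → ZMod 3)} (hf : PointMap a f) (hw : Weights a)
    (hcard : 4 ≤ (Finset.univ.filter fun i => a i = 1).card) :
    ∃ g : OQ (diagForm a), ∀ v, dot a v v = 1 → Pm (f v) ((g : (Fin M → ZMod 3) ≃ₗ[ZMod 3] _) v) :=
  exists_isometry_of_signs hf hw fun _ h hfix => exists_signs h hw hcard hfix

end CfsgLib.ThreeTrans.Refl3
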