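import Cfsg.Agent.Lib.ThreeTrans.Refl3.Pairs

/-!
Fullness from the number of the members commuting with a non-commuting pair (owner: helper6).
-/

set_option autoImplicit false

namespace CfsgLib.ThreeTrans.Refl3

open Cfsg CfsgLib.Classical.Quad
open QuadraticMap (polar polarBilin)

universe u v

variable [Fact (Nat.Prime 3)] {G : Type u} [Group G] {W : Type v} [AddCommGroup W] [Module (ZMod 3) W]
  [FiniteDimensional (ZMod 3) W] {Q : QuadraticForm (ZMod 3) W}

theorem finrank_perp_inf (U : Submodule (ZMod 3) W) (v : W) :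
    Module.finrank (ZMod 3) U ≤ Module.finrank (ZMod 3) (U ⊓ perp Q v : Submodule (ZMod 3) W) + 1 := by
  have h1 := Submodule.finrank_sup_add_finrank_inf_eq U (perp Q v)
  have h2 := Submodule.finrank_le (U ⊔ perp Q v)
  have h3 : _ + Module.finrank (ZMod 3) (perp Q v) = _ :=
    LinearMap.finrank_range_add_finrank_ker (polarBilin Q v)
  have h4 := Submodule.finrank_le (LinearMap.range (polarBilin Q v))
  rw [Module.finrank_self] at h4
  omega

namespace Sect

variable {D : Set G} {d : G} {e : W} {ψ : G → W} (h : Sect D Q d e ψ)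
include h

/-- When non-commuting pairs have enough common neighbours, the lines are full. -/
theorem full_of_count [Finite G]
    (hcount : ∀ a ∈ D, ¬ Commute d a →
      (nb D d).ncard ≤ {y | y ∈ nb D d ∧ y ∈ nb D a}.ncard + 3 ^ (Module.finrank (ZMod 3) W - 3)) :
    h.Full := by
  classical
  intro a x hx hax hnc y₀ hy₀ hp₀
  obtain ⟨hu, heu, hu0, -⟩ := h.vec_spec hx hax hnc
  set u := h.vec x a with hudef
  set T := {y | y ∈ nb D d ∧ polar Q (ψ y) u = 0} with hT
  set S := {y | y ∈ nb D d ∧ y ∈ nb D a} with hS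
  have hST : S ⊆ T := by
    rintro y ⟨hy, hya⟩
    have hay := h.self_mem_nb_comm hax.1 hya
    obtain ⟨t, ht, e1⟩ := h.line_agree hx hax hy hay hnc
    have h2 := (h.vec_spec hy hay hnc).2.2.2
    rw [e1, polar_smul_right', mul_eq_zero] at h2
    exact ⟨hy, h2.resolve_left ht⟩
  obtain ⟨b, hb, heb, hub⟩ := exists_partner h.nondeg h.norm_e hu heu hu0
  set K := perp Q e ⊓ perp Q u ⊓ perp Q b with hK
  have hKd : Module.finrank (ZMod 3) W ≤ Module.finrank (ZMod 3) K + 3 := by
    have h0 := finrank_perp_inf (Q := Q) ⊤ e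
    rw [top_inf_eq, finrank_top] at h0
    have h1 := finrank_perp_inf (Q := Q) (perp Q e) u
    have h2 := finrank_perp_inf (Q := Q) (perp Q e ⊓ perp Q u) b
    rw [hK]
    omega
  have hcardK : 3 ^ (Module.finrank (ZMod 3) W - 3) ≤ Nat.card K := by
    rw [Module.natCard_eq_pow_finrank (K := ZMod 3), Nat.card_zmod]
    exact Nat.pow_le_pow_right (by norm_num) (by omega)
  let vk : K → W := fun k => (k : W) + b + (1 - Q (k : W)) • u
  have hmem : ∀ k : K, polar Q e (k : W) = 0 ∧ polar Q u (k : W) = 0 ∧ polar Q b (k : W) = 0 := fun k =>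
    ⟨k.2.1.1, k.2.1.2, k.2.2⟩
  have hQ : ∀ k, Q (vk k) = 1 := fun k => by
    obtain ⟨-, h2, h3⟩ := hmem k
    simp only [vk, apply_add, apply_smul, hb, hu, polar_add_left', polar_smul_right',
      QuadraticMap.polar_comm (⇑Q) (k : W) b, h3, QuadraticMap.polar_comm (⇑Q) (k : W) u, h2,
      QuadraticMap.polar_comm (⇑Q) b u, hub]
    ring
  have he : ∀ k, polar Q e (vk k) = 0 := fun k => by
    simp only [vk, polar_add_right', polar_smul_right', (hmem k).1, heb, heu]; ring
  have hun : ∀ k, polar Q u (vk k) = 1 := fun k => by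
    simp only [vk, polar_add_right', polar_smul_right', (hmem k).2.1, hub, polar_self', hu]; ring
  have hsurj : ∀ k, ∃ y ∈ nb D d, Pm (ψ y) (vk k) := fun k => h.model.surj _ (he k) (hQ k)
  choose ι hι hι' using hsurj
  have hout : ∀ k, ι k ∈ nb D d \ T := fun k => ⟨hι k, fun hh => by
    have := (Pm.polar_iff (hι' k) (Pm.refl u)).1 hh.2
    rw [QuadraticMap.polar_comm, hun] at this
    exact one_ne_zero this⟩
  have hinj : Function.Injective ι := fun k k' e1 => by
    have h1 : Pm (vk k) (vk k') := (hι' k).symm.trans (e1 ▸ hι' k')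
    rcases h1 with h1 | h1
    · have h2 := congrArg (polar Q b) h1
      simp only [vk, polar_add_right', polar_smul_right', (hmem k).2.2, (hmem k').2.2, polar_self', hb,
        QuadraticMap.polar_comm (⇑Q) b u, hub] at h2
      have h3 : (1 - Q (k : W)) = (1 - Q (k' : W)) := by linear_combination h2
      simp only [vk, h3] at h1
      exact Subtype.ext (add_right_cancel (add_right_cancel h1))
    · have h2 := congrArg (polar Q u) h1
      rw [hun, QuadraticMap.polar_neg_right, hun] at h2
      exact absurd h2 one_ne_neg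
  have hge : Nat.card K ≤ (nb D d \ T).ncard := by
    rw [← Set.ncard_range_of_injective hinj]
    exact Set.ncard_le_ncard (by rintro _ ⟨k, rfl⟩; exact hout k) (Set.toFinite _)
  have hTn : T ⊆ nb D d := fun y hy => hy.1
  have hsum := Set.ncard_sdiff_add_ncard_of_subset hTn (Set.toFinite _)
  have hle : T.ncard ≤ S.ncard := by
    have := hcount a hax.1 hnc
    rw [← hS] at this
    omega
  have heq : S = T := Set.eq_of_subset_of_ncard_le hST hle (Set.toFinite _)
  have : y₀ ∈ S := heq ▸ (⟨hy₀, hp₀⟩ : y₀ ∈ T)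
  exact this.2

end Sect

end CfsgLib.ThreeTrans.Refl3
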