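import Cfsg.Agent.Lib.ThreeTrans.Refl3.Pairs

/-!
The members are the vectors of norm one of the whole space, up to sign (owner: helper6).
-/

set_option autoImplicit false

namespace CfsgLib.ThreeTrans.Refl3

open Cfsg CfsgLib.Classical.Quad
open QuadraticMap (polar polarBilin)

universe u v

theorem far_edge : ∀ e t t' p : ZMod 3, p ≠ 0 → e * p = t * t' → (2 + t * (t' * p) = 0 ↔ e = 1) := by decide

theorem far_ne : ∀ t : ZMod 3, 2 + t * 0 ≠ 0 := by decide

theorem same_coeff : ∀ s t τa τb k c p r : ZMod 3, s ≠ 0 → t ≠ 0 → τa ≠ 0 → τb ≠ 0 → r ≠ 0 → c ≠ 0 →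
    τa * τb = k → s * r = τa * c → t * r = τb * c → p = t * k → p = s := by
  intro s t τa τb k c p r _ _ _ hb hr _ hk e1 e2 ep
  linear_combination ep - t * hk + (τa * τb * r) * e2 - r * e1 + (τa * c * r) * sq_one _ hb
    - (t * τa * τb - s) * sq_one _ hr

theorem neg_two_eq : -(2 : ZMod 3) = 1 := by decide

theorem self_line : (1 : ZMod 3) = -(1 - 2 * 1 * 1) := by decide

theorem neg_two_ne : -(2 : ZMod 3) ≠ 2 := by decide

theorem three_coeff : ∀ k β t : ZMod 3, k ≠ 0 → β ≠ 0 → t ≠ 0 →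
    k * β - t = 0 ∨ k * β - t = -(k * β) := by decide

theorem iso_coeff : ∀ b : ZMod 3, b ≠ 0 → b * b * 1 + 1 + b * b = 0 := by decide

theorem double_zero : ∀ b : ZMod 3, b + b * (2 * 1) = 0 := by decide

variable [Fact (Nat.Prime 3)] {G : Type u} [Group G] {W : Type v} [AddCommGroup W] [Module (ZMod 3) W]
  [FiniteDimensional (ZMod 3) W] {Q : QuadraticForm (ZMod 3) W}

namespace Sect

variable [Finite G] {D : Set G} {d : G} {e : W} {ψ : G → W} (h : Sect D Q d e ψ)

/-- The vector of a member. -/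
noncomputable def phi (h : Sect D Q d e ψ) (τ : G → ZMod 3) (a : G) : W :=
  haveI := Classical.propDecidable
  if a = d then e else if a ∈ nb D d then ψ a else e + τ a • h.ln a

/-- The signs make commuting the polar form. -/
structure Signs (h : Sect D Q d e ψ) (τ : G → ZMod 3) : Prop where
  full : h.Full
  ne : ∀ a, h.Far a → τ a ≠ 0
  edge : ∀ a b, h.Far a → h.Far b → polar Q (h.ln a) (h.ln b) ≠ 0 → h.edge a b = τ a * τ b

variable {τ : G → ZMod 3}

theorem phi_self : h.phi τ d = e := by simp [phi]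

theorem phi_nb {a : G} (ha : a ∈ nb D d) : h.phi τ a = ψ a := by simp [phi, ha, ha.2.1]

theorem phi_far {a : G} (ha : h.Far a) : h.phi τ a = e + τ a • h.ln a := by
  rw [phi, if_neg, if_neg]
  · exact fun hn => ha.2.1 hn.2.2
  · exact fun e' => ha.2.1 (e' ▸ Commute.refl d)

variable (hs : Signs h τ)
include h hs

theorem smul_ln_spec {a : G} (ha : h.Far a) :
    Q (τ a • h.ln a) = 0 ∧ polar Q e (τ a • h.ln a) = 0 ∧ τ a • h.ln a ≠ 0 := by
  have L := h.isLine hs.full ha
  exact ⟨by rw [apply_smul, L.iso, mul_zero], by rw [polar_smul_right', L.perp, mul_zero],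
    smul_ne_zero (hs.ne a ha) L.ne⟩

theorem norm_far {a : G} (ha : h.Far a) : Q (h.phi τ a) = 1 := by
  obtain ⟨h1, h2, -⟩ := h.smul_ln_spec hs ha
  rw [h.phi_far ha, apply_add, h.norm_e, h1, h2, add_zero, add_zero]

theorem polar_e_far {a : G} (ha : h.Far a) : polar Q e (h.phi τ a) = 2 := by
  obtain ⟨-, h2, -⟩ := h.smul_ln_spec hs ha
  rw [h.phi_far ha, polar_add_right', polar_self', h.norm_e, h2, mul_one, add_zero]

theorem polar_far {a b : G} (ha : h.Far a) (hb : h.Far b) :
    polar Q (h.phi τ a) (h.phi τ b) = 2 + τ a * (τ b * polar Q (h.ln a) (h.ln b)) := by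
  obtain ⟨-, ha2, -⟩ := h.smul_ln_spec hs ha
  obtain ⟨-, hb2, -⟩ := h.smul_ln_spec hs hb
  rw [h.phi_far ha, h.phi_far hb, polar_add_left', polar_add_right', polar_add_right',
    QuadraticMap.polar_comm (⇑Q) (τ a • h.ln a) e, ha2, hb2, polar_self', h.norm_e, polar_smul_left',
    polar_smul_right']
  ring

theorem perp_far {a b : G} (ha : h.Far a) (hb : h.Far b) (hne : a ≠ b) :
    Commute a b ↔ polar Q (h.phi τ a) (h.phi τ b) = 0 := by
  rw [h.polar_far hs ha hb]
  by_cases hp : polar Q (h.ln a) (h.ln b) = 0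
  · refine iff_of_false (h.not_commute_of_orth hs.full ha hb hne hp) ?_
    rw [hp, mul_zero]
    exact far_ne _
  · have he := hs.edge a b ha hb hp
    rw [Sect.edge] at he
    rw [far_edge _ _ _ _ hp he]
    by_cases hc : Commute a b <;> simp [hc]
    exact one_ne_neg.symm

theorem inj_far {a b : G} (ha : h.Far a) (hb : h.Far b) (e' : τ a • h.ln a = τ b • h.ln b) : a = b := by
  by_contra hne
  have La := h.isLine hs.full ha; have Lb := h.isLine hs.full hb
  have hta := hs.ne a ha; have htb := hs.ne b hb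
  have hln : h.ln b = (τ a * τ b) • h.ln a := by
    rw [mul_comm, mul_smul, e', smul_smul, sq_one _ htb, one_smul]
  obtain ⟨z, hz, hez, hza, -⟩ := exists_common h.nondeg h.norm_e h.dim La.iso La.iso La.perp La.perp La.ne La.ne
  obtain ⟨c, hc, t, ht, ec⟩ := h.exists_member hs.full hz hez
    (fun e0 => hza (by rw [e0, QuadraticMap.polar_zero_left]))
  have pac : polar Q (h.ln a) (h.ln c) ≠ 0 := by
    rw [ec, polar_smul_right', QuadraticMap.polar_comm]; exact mul_ne_zero ht hza
  have pbc : polar Q (h.ln b) (h.ln c) ≠ 0 := by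
    rw [hln, polar_smul_left']; exact mul_ne_zero (mul_ne_zero hta htb) pac
  obtain ⟨x, hx, hxa, hxc⟩ := h.exists_x2 hs.full ha hc pac
  have hxb : polar Q (ψ x) (h.ln b) = 0 := by rw [hln, polar_smul_right', hxa, mul_zero]
  obtain ⟨s, hs0, es⟩ := h.exists_coeff hs.full hx ha hxa
  obtain ⟨k, hk0, ek⟩ := h.exists_coeff hs.full hx hb hxb
  obtain ⟨r, hr0, er⟩ := h.exists_coeff hs.full hx hc hxc
  have e1 := (h.edge_eq hs.full hx ha hc hxa hxc pac hs0 hr0 es er).symm.trans (hs.edge a c ha hc pac)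
  have e2 := (h.edge_eq hs.full hx hb hc hxb hxc pbc hk0 hr0 ek er).symm.trans (hs.edge b c hb hc pbc)
  have hv : h.vec x b = h.vec x a := by
    rw [ek, es, hln, smul_smul,
      same_coeff s k (τ a) (τ b) _ _ _ r hs0 hk0 hta htb hr0 (hs.ne c hc) rfl e1 e2 rfl]
  have hax := h.near hs.full hx ha hxa
  have hbx := h.near hs.full hx hb hxb
  refine hne ((h.isChart hx).model.inj a hax b hbx ?_)
  refine (isoPart_pm_add h.norm_e (h.chart_polar hx hax ha.2.1)).trans ?_
  refine Pm.trans ?_ (isoPart_pm_add h.norm_e (h.chart_polar hx hbx hb.2.1)).symm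
  rw [← vec, ← vec, hv]
  exact Pm.refl _

/-- The members reached from `d`. -/
def Near (h : Sect D Q d e ψ) (a : G) : Prop := a = d ∨ a ∈ nb D d ∨ h.Far a

theorem near_mem {a : G} (ha : h.Near a) : a ∈ D := by
  rcases ha with rfl | ha | ha
  exacts [h.mem_d, ha.1, ha.1]

theorem norm_phi {a : G} (ha : h.Near a) : Q (h.phi τ a) = 1 := by
  rcases ha with rfl | ha | ha
  · rw [h.phi_self, h.norm_e]
  · rw [h.phi_nb ha]; exact h.norm_ψ ha
  · exact h.norm_far hs ha

theorem perp_phi {a b : G} (ha : h.Near a) (hb : h.Near b) (hne : a ≠ b) :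
    Commute a b ↔ polar Q (h.phi τ a) (h.phi τ b) = 0 := by
  have key : ∀ {a b : G}, h.Near b → a ≠ b → a = d ∨ a ∈ nb D d ∧ h.Far b →
      (Commute a b ↔ polar Q (h.phi τ a) (h.phi τ b) = 0) := by
    rintro a b hb hne (rfl | ⟨ha, hb'⟩)
    · rw [h.phi_self]
      rcases hb with rfl | hb | hb
      · exact absurd rfl hne
      · rw [h.phi_nb hb]; exact iff_of_true hb.2.2 (h.perp_ψ hb)
      · rw [h.polar_e_far hs hb]; exact iff_of_false hb.2.1 two_ne
    · obtain ⟨-, h2, -⟩ := h.smul_ln_spec hs hb'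
      rw [h.phi_nb ha, h.phi_far hb', polar_add_right', QuadraticMap.polar_comm (⇑Q) (ψ a) e, h.perp_ψ ha,
        zero_add, polar_smul_right', mul_eq_zero_iff_left (hs.ne b hb'),
        ← (h.isLine hs.full hb').mem a ha]
      exact ⟨fun hc => ⟨ha.1, hne, hc.symm⟩, fun hc => hc.2.2.symm⟩
  have swap : (Commute b a ↔ polar Q (h.phi τ b) (h.phi τ a) = 0) →
      (Commute a b ↔ polar Q (h.phi τ a) (h.phi τ b) = 0) := fun hh => by
    rw [QuadraticMap.polar_comm, ← hh]; exact ⟨Commute.symm, Commute.symm⟩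
  rcases ha with ha | ha | ha
  · exact key hb hne (Or.inl ha)
  · rcases hb with hb | hb | hb
    · exact swap (key (Or.inr (Or.inl ha)) hne.symm (Or.inl hb))
    · rw [h.phi_nb ha, h.phi_nb hb]; exact h.model.perp a ha b hb hne
    · exact key (Or.inr (Or.inr hb)) hne (Or.inr ⟨ha, hb⟩)
  · rcases hb with hb | hb | hb
    · exact swap (key (Or.inr (Or.inr ha)) hne.symm (Or.inl hb))
    · exact swap (key (Or.inr (Or.inr ha)) hne.symm (Or.inr ⟨hb, ha⟩))
    · exact h.perp_far hs ha hb hne

theorem inj_phi {a b : G} (ha : h.Near a) (hb : h.Near b) (e' : Pm (h.phi τ a) (h.phi τ b)) : a = b := by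
  have nbfar : ∀ {a b : G}, a ∈ nb D d → (b = d ∨ h.Far b) → ¬ Pm (h.phi τ a) (h.phi τ b) := by
    intro a b ha hb hp
    have h1 := (Pm.polar_iff (Pm.refl e) hp).1 (by rw [h.phi_nb ha]; exact h.perp_ψ ha)
    rcases hb with rfl | hb
    · rw [h.phi_self] at h1; exact polar_self_ne h.norm_e h1
    · rw [h.polar_e_far hs hb] at h1; exact two_ne h1
  have coef : ∀ {a : G}, (a = d ∨ h.Far a) → polar Q e (h.phi τ a) = 2 := by
    rintro a (rfl | ha)
    · rw [h.phi_self, polar_self', h.norm_e, mul_one]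
    · exact h.polar_e_far hs ha
  have strict : ∀ {a b : G}, (a = d ∨ h.Far a) → (b = d ∨ h.Far b) → Pm (h.phi τ a) (h.phi τ b) →
      h.phi τ a = h.phi τ b := by
    intro a b ha hb hp
    refine hp.resolve_right fun e1 => ?_
    have := coef ha
    rw [e1, QuadraticMap.polar_neg_right, coef hb] at this
    exact neg_two_ne this
  have dfar : ∀ {b : G}, h.Far b → ¬ Pm (h.phi τ d) (h.phi τ b) := fun {b} hb hp => by
    have := strict (Or.inl rfl) (Or.inr hb) hp
    rw [h.phi_self, h.phi_far hb, left_eq_add] at this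
    exact (h.smul_ln_spec hs hb).2.2 this
  rcases ha with rfl | ha | ha <;> rcases hb with rfl | hb | hb
  · rfl
  · exact absurd e'.symm (nbfar hb (Or.inl rfl))
  · exact absurd e' (dfar hb)
  · exact absurd e' (nbfar ha (Or.inl rfl))
  · rw [h.phi_nb ha, h.phi_nb hb] at e'; exact h.model.inj a ha b hb e'
  · exact absurd e' (nbfar ha (Or.inr hb))
  · exact absurd e'.symm (dfar ha)
  · exact absurd e'.symm (nbfar hb (Or.inr ha))
  · have := strict (Or.inr ha) (Or.inr hb) e'
    rw [h.phi_far ha, h.phi_far hb] at this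
    exact h.inj_far hs ha hb (add_left_cancel this)

theorem surj_phi {v : W} (hv : Q v = 1) : ∃ a, h.Near a ∧ Pm (h.phi τ a) v := by
  by_cases hq : polar Q v e = 0
  · obtain ⟨a, ha, hp⟩ := h.model.surj v (by rw [mem_perp, QuadraticMap.polar_comm]; exact hq) hv
    exact ⟨a, Or.inr (Or.inl ha), by rw [h.phi_nb ha]; exact hp⟩
  set u := isoPart Q e v with hu
  have hvu : Pm v (e + u) := isoPart_pm_add h.norm_e hq
  have hu1 : Q u = 0 := isoPart_norm h.norm_e hv hq
  have hu2 : polar Q e u = 0 := isoPart_perp h.norm_e hq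
  by_cases hu0 : u = 0
  · exact ⟨d, Or.inl rfl, by rw [h.phi_self]; rw [hu0, add_zero] at hvu; exact hvu.symm⟩
  obtain ⟨p, hp, hpC, hpu⟩ := exists_point h.nondeg (nondeg_single h.norm_e) (Submodule.span (ZMod 3) {u})
    (by have := finrank_one (W := W) e; have := finrank_one (W := W) u; have := h.dim; omega)
  obtain ⟨x, hx, hxp⟩ := h.model.surj p (hpC e (Submodule.subset_span rfl)) hp
  have hxu : polar Q (ψ x) u = 0 := (Pm.polar_iff hxp (Pm.refl _)).2 (by
    rw [QuadraticMap.polar_comm]; exact hpu u (Submodule.subset_span rfl))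
  have hxe : polar Q (ψ x) e = 0 := by rw [QuadraticMap.polar_comm]; exact h.perp_ψ hx
  have mk : ∀ w, Pm w u → ∃ a, h.Far a ∧ h.vec x a = w ∧ Pm (τ a • h.ln a) u := by
    intro w hw
    have hw1 : Q w = 0 := by rw [Pm.apply_eq hw, hu1]
    have hw2 : polar Q e w = 0 := (Pm.polar_iff (Pm.refl e) hw).2 hu2
    have hw3 : polar Q (ψ x) w = 0 := (Pm.polar_iff (Pm.refl _) hw).2 hxu
    obtain ⟨a, ha, hau⟩ := (h.isChart hx).model.surj (e + w)
      (show polar Q (ψ x) (e + w) = 0 by rw [polar_add_right', hxe, hw3, add_zero])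
      (by rw [apply_add, h.norm_e, hw1, hw2]; ring)
    have hiso : h.vec x a = w := by rw [vec, isoPart_pm h.norm_e hau, isoPart_of h.norm_e hw2]
    have hnc : ¬ Commute d a := fun hc => by
      by_cases hne : a = d
      · refine hu0 ?_
        have : w = 0 := by
          rw [← hiso, vec, hne, isoPart_pm h.norm_e (h.isChart hx).base, isoPart, polar_self', h.norm_e, mul_one,
            neg_two_eq, one_smul, sub_self]
        rcases hw with e1 | e1 <;> rw [this] at e1
        exacts [e1.symm, neg_eq_zero.1 e1.symm]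
      · have h1 := ((h.isChart hx).model.perp a ha d (h.mem_nb_symm hx) hne).1 hc.symm
        rw [Pm.polar_iff hau (h.isChart hx).base, polar_add_left', polar_self', h.norm_e,
          QuadraticMap.polar_comm (⇑Q) w e, hw2, mul_one, add_zero] at h1
        exact two_ne h1
    have hxa : x ∈ nb D a := ⟨hx.1, Ne.symm ha.2.1, ha.2.2.symm⟩
    have hF : h.Far a := ⟨ha.1, hnc, x, hx, hxa⟩
    obtain ⟨t, ht, e1⟩ := (h.isLine hs.full hF).vec x hx hxa
    refine ⟨a, hF, hiso, ?_⟩
    rw [hiso] at e1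
    have : τ a • h.ln a = (τ a * t) • w := by rw [e1, smul_smul, mul_assoc, sq_one t ht, mul_one]
    rw [this]
    rcases sign_cases _ (mul_ne_zero (hs.ne a hF) ht) with e2 | e2 <;> rw [e2]
    · rw [one_smul]; exact hw
    · rw [neg_one_smul]; exact Pm.trans (Or.inr rfl) hw
  obtain ⟨a, ha, ea, pa⟩ := mk u (Pm.refl u)
  obtain ⟨b, hb, eb, pb⟩ := mk (-u) (Or.inr rfl)
  have fin : ∀ {a : G}, h.Far a → τ a • h.ln a = u → Pm (h.phi τ a) v := fun {a} ha e1 => by
    rw [h.phi_far ha, e1]; exact hvu.symm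
  rcases pa with pa | pa
  · exact ⟨a, Or.inr (Or.inr ha), fin ha pa⟩
  rcases pb with pb | pb
  · exact ⟨b, Or.inr (Or.inr hb), fin hb pb⟩
  refine absurd ?_ hu0
  have : a = b := h.inj_far hs ha hb (pa.trans pb.symm)
  subst this
  rw [ea] at eb
  have h2 : (2 : ZMod 3) • u = 0 := by rw [two_smul]; exact eq_neg_iff_add_eq_zero.1 eb
  exact (smul_eq_zero.1 h2).resolve_left two_ne

/-- Everything is reached. -/
theorem near_all (hconn : (commutingGraph D).Connected) {a : G} (ha : a ∈ D) : h.Near a := by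
  classical
  have step : ∀ {b y : G}, h.Near b → y ∈ nb D b → h.Near y := by
    intro b y hb hy
    rcases hb with rfl | hb | hb
    · exact Or.inr (Or.inl hy)
    · by_cases hy' : y = d
      · exact Or.inl hy'
      by_cases hc : Commute d y
      · exact Or.inr (Or.inl ⟨hy.1, hy', hc⟩)
      · exact Or.inr (Or.inr ⟨hy.1, hc, b, hb, hb.1, Ne.symm hy.2.1, hy.2.2.symm⟩)
    · obtain ⟨g, hg⟩ := h.trans b hb.1
      have hbn := h.norm_far hs hb
      have hnot : ∀ v : W, Q v = 1 → v ∉ (⊥ : Submodule (ZMod 3) W) := fun v hv hm => by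
        rw [(Submodule.mem_bot _).1 hm, QuadraticMap.map_zero] at hv; exact zero_ne_one hv
      obtain ⟨k, -, hk⟩ := witt_step h.nondeg (hnot e h.norm_e) (hnot _ hbn) (by rw [hbn, h.norm_e])
        (fun u hu => by simp [(Submodule.mem_bot _).1 hu])
      have hS : ∀ z ∈ nb D d, ∃ a, h.Near a ∧ Pm (h.phi τ a) ((k : W ≃ₗ[ZMod 3] W) (ψ z)) := fun z hz =>
        h.surj_phi hs (by rw [OQ.map_apply]; exact h.norm_ψ hz)
      let ι : G → G := fun z => if hz : z ∈ nb D d then (hS z hz).choose else z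
      have hι : ∀ z ∈ nb D d, h.Near (ι z) ∧ Pm (h.phi τ (ι z)) ((k : W ≃ₗ[ZMod 3] W) (ψ z)) := fun z hz => by
        simp only [ι, dif_pos hz]; exact (hS z hz).choose_spec
      have hsub : ι '' nb D d ⊆ {z | h.Near z ∧ z ∈ nb D b} := by
        rintro _ ⟨z, hz, rfl⟩
        obtain ⟨h1, h2⟩ := hι z hz
        have hp : polar Q (h.phi τ (ι z)) (h.phi τ b) = 0 := by
          rw [Pm.polar_iff h2 (Pm.refl _), ← hk, OQ.map_polar, QuadraticMap.polar_comm]; exact h.perp_ψ hz
        have hne : ι z ≠ b := fun e' => polar_self_ne hbn (e' ▸ hp)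
        exact ⟨h1, h.near_mem hs h1, hne, ((h.perp_phi hs h1 (Or.inr (Or.inr hb)) hne).2 hp).symm⟩
      have hinj : Set.InjOn ι (nb D d) := fun z hz z' hz' e' => h.model.inj z hz z' hz' (by
        have h3 := (hι z hz).2.symm.trans (e' ▸ (hι z' hz').2)
        have h4 := Pm.map (k : W ≃ₗ[ZMod 3] W).symm h3
        simpa using h4)
      have hcard : (nb D b).ncard ≤ (nb D d).ncard := by
        refine Set.ncard_le_ncard_of_injOn (fun z => g⁻¹ * z * g) (fun z hz => conj_mem_nb h.grp hg hz) ?_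
          (Set.toFinite _)
        intro z _ z' _ e'; exact mul_left_cancel (mul_right_cancel e')
      have heq : {z | h.Near z ∧ z ∈ nb D b} = nb D b := by
        refine Set.eq_of_subset_of_ncard_le (fun z hz => hz.2) ?_ (Set.toFinite _)
        rw [← Set.InjOn.ncard_image hinj] at hcard
        exact hcard.trans (Set.ncard_le_ncard hsub (Set.toFinite _))
      exact (heq.symm.subset hy).1
  have hr := hconn.preconnected ⟨d, h.mem_d⟩ ⟨a, ha⟩
  rw [SimpleGraph.reachable_iff_reflTransGen] at hr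
  suffices ∀ q : D, Relation.ReflTransGen (commutingGraph D).Adj ⟨d, h.mem_d⟩ q → h.Near q from this ⟨a, ha⟩ hr
  intro q hq
  induction hq with
  | refl => exact Or.inl rfl
  | @tail p q _ hadj ih =>
    obtain ⟨hne, hc⟩ := (SimpleGraph.fromRel_adj _ _ _).1 hadj
    exact step ih ⟨q.2, fun e' => hne (Subtype.ext e'.symm), hc.elim id Commute.symm⟩

/-- The members are modelled by the vectors of norm one. -/
theorem isModel (hconn : (commutingGraph D).Connected) : IsModel D Q ⊤ (h.phi τ) := by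
  have hN : ∀ {a}, a ∈ D → h.Near a := fun ha => h.near_all hs hconn ha
  have hS := h.grp.1
  refine
    { mem := fun a ha => ⟨Submodule.mem_top, h.norm_phi hs (hN ha)⟩
      inj := fun a ha b hb => h.inj_phi hs (hN ha) (hN hb)
      surj := fun v _ hv => let ⟨a, ha, hp⟩ := h.surj_phi hs hv; ⟨a, h.near_mem hs ha, hp⟩
      perp := fun a ha b hb hne => h.perp_phi hs (hN ha) (hN hb) hne
      line := fun a ha b hb => ?_ }
  set v₁ := h.phi τ a with hv₁
  set v₂ := h.phi τ b with hv₂
  have n₁ : Q v₁ = 1 := h.norm_phi hs (hN ha)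
  have n₂ : Q v₂ = 1 := h.norm_phi hs (hN hb)
  by_cases hab : a = b
  · subst hab
    rw [rfl3, polar_self', n₁, show a * a * a = a by rw [mul_self hS ha, one_mul]]
    refine Or.inr ?_
    rw [← hv₁]
    match_scalars
    exact self_line
  by_cases hc : Commute a b
  · rw [rfl3, QuadraticMap.polar_comm, (h.perp_phi hs (hN ha) (hN hb) hab).1 hc, zero_smul, sub_zero,
      show a * b * a = b by rw [hc.eq, mul_assoc, mul_self hS ha, mul_one]]
    exact Pm.refl _
  set β := polar Q v₁ v₂ with hβ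
  have hβ0 : β ≠ 0 := fun e' => hc ((h.perp_phi hs (hN ha) (hN hb) hab).2 e')
  set c := a * b * a with hc'
  have hcD : c ∈ D := by
    have := h.grp.2.1 a b hb
    rwa [inv_eq hS ha] at this
  have hca : ¬ Commute a c := fun hh => hc (by
    have e1 : a * c = b * a := by rw [hc', mul_assoc a b a, mul_self_assoc hS ha]
    have e2 : c * a = a * b := by rw [hc', mul_assoc, mul_self hS ha, mul_one]
    exact e2.symm.trans (hh.eq.symm.trans e1))
  have hac : a ≠ c := fun e' => hca (e' ▸ Commute.refl a)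
  set z := h.phi τ c with hz
  have nz : Q z = 1 := h.norm_phi hs (hN hcD)
  set t := polar Q v₁ z with ht
  have ht0 : t ≠ 0 := fun e' => hca ((h.perp_phi hs (hN ha) (hN hcD) hac).2 e')
  set r := v₂ + β • v₁ with hr
  set z' := z + t • v₁ with hz'
  have hrQ : Q r = 0 := by
    rw [hr, apply_add, apply_smul, n₂, n₁, polar_smul_right', QuadraticMap.polar_comm (⇑Q) v₂ v₁, ← hβ]
    linear_combination iso_coeff β hβ0
  have hz'Q : Q z' = 0 := by
    rw [hz', apply_add, apply_smul, nz, n₁, polar_smul_right', QuadraticMap.polar_comm (⇑Q) z v₁, ← ht]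
    linear_combination iso_coeff t ht0
  have hr1 : polar Q v₁ r = 0 := by
    rw [hr, polar_add_right', polar_smul_right', polar_self', n₁, ← hβ]; exact double_zero β
  have hz1 : polar Q v₁ z' = 0 := by
    rw [hz', polar_add_right', polar_smul_right', polar_self', n₁, ← ht]; exact double_zero t
  have hspan := mem_span_of_points h.nondeg (nondeg_single n₁) hrQ hz'Q
    (fun w hw => by obtain ⟨k, rfl⟩ := Submodule.mem_span_singleton.1 hw; rw [polar_smul_left', hr1, mul_zero])
    (fun w hw => by obtain ⟨k, rfl⟩ := Submodule.mem_span_singleton.1 hw; rw [polar_smul_left', hz1, mul_zero])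
    (by have := finrank_one (W := W) v₁; have := h.dim; omega)
    fun p hp hpC hrp => by
      obtain ⟨y, hy, hyp⟩ := h.surj_phi hs hp
      have p1 : polar Q v₁ p = 0 := hpC v₁ (Submodule.subset_span rfl)
      have p2 : polar Q v₂ p = 0 := by
        rw [hr, polar_add_left', polar_smul_left', p1, mul_zero, add_zero] at hrp; exact hrp
      have com : ∀ {m : G}, m ∈ D → polar Q (h.phi τ m) p = 0 → y ≠ m ∧ Commute y m := fun {m} hm hm' => by
        have h0 : polar Q (h.phi τ y) (h.phi τ m) = 0 :=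
          (Pm.polar_iff hyp (Pm.refl _)).2 (by rw [QuadraticMap.polar_comm]; exact hm')
        have hne : y ≠ m := fun e' => polar_self_ne (h.norm_phi hs (hN hm)) (e' ▸ h0)
        exact ⟨hne, (h.perp_phi hs hy (hN hm) hne).2 h0⟩
      obtain ⟨hya, hca'⟩ := com ha p1
      obtain ⟨-, hcb'⟩ := com hb p2
      have hyc : Commute y c := (hca'.mul_right hcb').mul_right hca'
      have hne : y ≠ c := fun e' => hca (e' ▸ hca'.symm)
      have h0 : polar Q (h.phi τ y) z = 0 := (h.perp_phi hs hy (hN hcD) hne).1 hyc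
      have hpz : polar Q z p = 0 := by
        rw [QuadraticMap.polar_comm]; exact (Pm.polar_iff hyp (Pm.refl _)).1 h0
      rw [hz', polar_add_left', polar_smul_left', hpz, p1, mul_zero, add_zero]
  obtain ⟨k, hk⟩ := Submodule.mem_span_singleton.1 hspan
  have ez : z = k • v₂ + (k * β - t) • v₁ := by
    have : z = k • r - t • v₁ := by rw [hk, hz']; abel
    rw [this, hr]; module
  have hk0 : k ≠ 0 := fun e' => by
    refine hac (h.inj_phi hs (hN ha) (hN hcD) ?_)
    show Pm v₁ z
    rw [ez, e', zero_smul, zero_mul, zero_sub, zero_add]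
    rcases sign_cases _ (neg_ne_zero.2 ht0) with e1 | e1 <;> rw [e1]
    · exact Or.inl (one_smul _ _).symm
    · exact Or.inr (by rw [neg_one_smul, neg_neg])
  have pmk : ∀ x : W, Pm (k • x) x := fun x => by
    rcases sign_cases k hk0 with e1 | e1 <;> rw [e1]
    · exact Or.inl (one_smul _ _)
    · exact Or.inr (neg_one_smul _ _)
  rcases three_coeff k β t hk0 hβ0 ht0 with e1 | e1
  · exfalso
    have : c = b := h.inj_phi hs (hN hcD) (hN hb) (by
      show Pm z v₂
      rw [ez, e1, zero_smul, add_zero]; exact pmk _)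
    refine hc (show a * b = b * a from ?_)
    calc a * b = a * b * a * a := by rw [mul_assoc _ a a, mul_self hS ha, mul_one]
      _ = b * a := by rw [← hc', this]
  · rw [ez, e1, neg_smul, mul_smul, ← sub_eq_add_neg, ← smul_sub, rfl3, QuadraticMap.polar_comm, ← hβ]
    exact pmk _

omit hs in
/-- A local model with fullness gives a global one. -/
theorem exists_model (hf : h.Full) (hconn : (commutingGraph D).Connected) :
    ∃ φ : G → W, IsModel D Q ⊤ φ := by
  obtain ⟨τ, h1, h2⟩ := h.exists_signs' hf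
  exact ⟨_, h.isModel ⟨hf, h1, h2⟩ hconn⟩

end Sect

end CfsgLib.ThreeTrans.Refl3
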