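import Cfsg.Agent.Lib.ThreeTrans.ReflectionsF3Prim
import Cfsg.Agent.Lib.ThreeTrans.Refl3.Main

/-!
A centreless class modelled by the vectors of norm one is the projective reflection group; the
reflections modulo the centre (owner: helper6).
-/

set_option autoImplicit false

namespace CfsgLib.ThreeTrans.Refl3

open Cfsg CfsgLib.Classical.Quad
open CfsgLib.ThreeTrans.ReflectionsF3 (elt elt_mem exists_elt elt_conj elt_eq commute_elt toOQ toOQ_elt toOQ_injective)
open QuadraticMap (polar polarBilin)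

universe u

theorem two_add_self : ∀ c : ZMod 3, c ≠ 0 → c + c ≠ 0 := by decide

theorem conj_back {H : Type*} [Group H] {x y z : H} (h : x * y * x⁻¹ = z) : x⁻¹ * z * (x⁻¹)⁻¹ = y := by
  rw [← h]; group

variable {n : ℕ} {Q : QuadraticForm (ZMod 3) (Fin n → ZMod 3)} {c : ZMod 3} (hc : c ≠ 0)

/-- The reflections of norm `c` inside the group they generate. -/
abbrev reflSet (Q : QuadraticForm (ZMod 3) (Fin n → ZMod 3)) (c : ZMod 3) :
    Set ↥(Cfsg.reflectionSubgroup (⇑Q) c) :=
  {g | (g : ↥(Cfsg.isometryGroup (ZMod 3) (⇑Q))) ∈ Cfsg.reflectionsOfNorm (⇑Q) c}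

theorem elt_pm {v w : Fin n → ZMod 3} (hv : Q v = c) (hw : Q w = c) (h : Pm v w) : elt hc hv = elt hc hw := by
  rcases h with rfl | rfl
  · rfl
  · exact elt_eq hc hw hv (neg_ne_zero.2 one_ne_zero) (neg_one_smul (ZMod 3) w).symm

include hc in
theorem pm_of_elt [Fact (Nat.Prime 3)] {v w : Fin n → ZMod 3} (hv : Q v = c) (hw : Q w = c) (h : elt hc hv = elt hc hw) :
    Pm v w := by
  have h' := congrArg (fun g => (toOQ g : (Fin n → ZMod 3) ≃ₗ[ZMod 3] (Fin n → ZMod 3)) v) h
  simp only [toOQ_elt, refl_apply, polar_self', hv, hw] at h'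
  have hv0 : v ≠ 0 := fun e => hc (by rw [← hv, e, QuadraticMap.map_zero])
  rw [show c⁻¹ * (2 * c) = 2 by field_simp] at h'
  set t := c⁻¹ * polar Q v w with ht
  have e2 : (2 : ZMod 3) • v = t • w := sub_right_injective h'
  have e3 : v = -(t • w) := by
    rw [← e2, ← neg_smul, neg_two_eq, one_smul]
  have ht0 : t ≠ 0 := fun e => hv0 (by rw [e3, e, zero_smul, neg_zero])
  rcases sign_cases t ht0 with e | e <;> rw [e] at e3
  · exact Or.inr (by rw [e3, one_smul])
  · exact Or.inl (by rw [e3, neg_one_smul, neg_neg])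

include hc in
theorem polar_of_commute [Fact (Nat.Prime 3)] {v w : Fin n → ZMod 3} (hv : Q v = c) (hw : Q w = c)
    (h : Commute (elt hc hv) (elt hc hw)) : polar Q v w = 0 ∨ Pm v w := by
  by_cases hp : polar Q v w = 0
  · exact Or.inl hp
  refine Or.inr (pm_of_elt hc hv hw ?_)
  have hb : elt hc hv * elt hc hw * elt hc hv = elt hc hw * elt hc hv * elt hc hw :=
    toOQ_injective (by rw [map_mul, map_mul, map_mul, map_mul, toOQ_elt, toOQ_elt,
      ReflectionsF3.braid hc hv hw _ _ hp])
  have hv2 : elt hc hv * elt hc hv = 1 := toOQ_injective (by rw [map_mul, map_one, toOQ_elt, refl_mul_self])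
  have hw2 : elt hc hw * elt hc hw = 1 := toOQ_injective (by rw [map_mul, map_one, toOQ_elt, refl_mul_self])
  rw [h.eq, mul_assoc, hv2, mul_one, ← h.eq, mul_assoc, hw2, mul_one] at hb
  exact hb.symm

include hc in
theorem line_elt [Fact (Nat.Prime 3)] {x v w : Fin n → ZMod 3} (hx : Q x = c) (hv : Q v = c) (hw : Q w = c)
    (h : elt hc hx * elt hc hv * elt hc hx = elt hc hw) : Pm w (v - (c * polar Q v x) • x) := by
  obtain ⟨hw', e⟩ := elt_conj hc hx hv
  have hx2 : elt hc hx * elt hc hx = 1 := toOQ_injective (by rw [map_mul, map_one, toOQ_elt, refl_mul_self])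
  rw [inv_eq_of_mul_eq_one_left hx2, h] at e
  have := pm_of_elt hc hw hw' e
  rwa [show c⁻¹ = c from inv_eq_of_mul_eq_one_left (sq_one c hc)] at this

section Quotient

variable [Fact (Nat.Prime 3)] (hQ : (polarBilin Q).Nondegenerate) (hn : 5 ≤ n)
include hQ hn

/-- Modulo the centre the reflections stay different. -/
theorem elt_eq_of_mk {v w : Fin n → ZMod 3} (hv : Q v = c) (hw : Q w = c)
    (h : (QuotientGroup.mk (elt hc hv) : _ ⧸ Subgroup.center ↥(Cfsg.reflectionSubgroup (⇑Q) c)) =
      QuotientGroup.mk (elt hc hw)) : elt hc hv = elt hc hw := by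
  by_contra hne
  set R := ↥(Cfsg.reflectionSubgroup (⇑Q) c)
  set D := reflSet Q c
  have hclass : IsThreeTranspositionClass D := ReflectionsF3.threeTranspositionClass (by omega) hQ hc
  obtain ⟨hprim, -⟩ := ReflectionsF3.primitive hc hQ hn
  let π : R → R ⧸ Subgroup.center R := QuotientGroup.mk
  set B := {g | g ∈ D ∧ π g = π (elt hc hv)} with hB
  have hBl : ∀ g : R, (fun x => g * x * g⁻¹) '' B = B ∨ Disjoint ((fun x => g * x * g⁻¹) '' B) B := by
    intro g
    by_cases hg : π (g * elt hc hv * g⁻¹) = π (elt hc hv)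
    · left
      ext y
      constructor
      · rintro ⟨x, ⟨hx1, hx2⟩, rfl⟩
        exact ⟨class_conj hclass g x hx1, by
          rw [← hg]; simp only [π, QuotientGroup.mk_mul, QuotientGroup.mk_inv] at hx2 ⊢; rw [hx2]⟩
      · rintro ⟨hy1, hy2⟩
        refine ⟨g⁻¹ * y * g, ⟨by simpa using class_conj hclass g⁻¹ y hy1, ?_⟩, by show g * (g⁻¹ * y * g) * g⁻¹ = y; rw [← mul_assoc, mul_inv_cancel_right, mul_inv_cancel_left]⟩
        rw [← hg] at hy2
        simp only [π, QuotientGroup.mk_mul, QuotientGroup.mk_inv] at hy2 ⊢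
        rw [hy2]; group
    · right
      rw [Set.disjoint_left]
      rintro _ ⟨x, ⟨-, hx2⟩, rfl⟩ ⟨-, hy2⟩
      refine hg ?_
      rw [← hy2]
      simp only [π, QuotientGroup.mk_mul, QuotientGroup.mk_inv] at hx2 ⊢
      rw [hx2]
  have hsub : B ⊆ D := fun x hx => hx.1
  rcases hprim.2.2 B hsub hBl with hs | hs
  · exact hne (hs (show elt hc hv ∈ B from ⟨elt_mem hc hv, rfl⟩) (show elt hc hw ∈ B from ⟨elt_mem hc hw, h.symm⟩))
  · have hall : ∀ {a b : Fin n → ZMod 3} (ha : Q a = c) (hb : Q b = c), polar Q a b = 0 ∨ Pm a b := by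
      intro a b ha hb
      refine polar_of_commute hc ha hb ?_
      have h1 : elt hc ha ∈ B := hs.symm ▸ (elt_mem hc ha : elt hc ha ∈ D)
      have h2 : elt hc hb ∈ B := hs.symm ▸ (elt_mem hc hb : elt hc hb ∈ D)
      have hz : (elt hc ha)⁻¹ * elt hc hb ∈ Subgroup.center R := QuotientGroup.eq.1 (h1.2.trans h2.2.symm)
      have h3 : Commute ((elt hc ha)⁻¹ * elt hc hb) (elt hc ha) := (Subgroup.mem_center_iff.1 hz _).symm
      have h4 := (Commute.refl (elt hc ha)).mul_left h3
      rw [mul_inv_cancel_left] at h4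
      exact h4.symm
    -- `a` and `a + x` with `x` isotropic
    obtain ⟨a, ha, -⟩ := exists_apply_eq_perp hQ (⊥ : Submodule (ZMod 3) (Fin n → ZMod 3))
      (by rw [Module.finrank_pi, Fintype.card_fin]; have : Module.finrank (ZMod 3) (⊥ : Submodule (ZMod 3) (Fin n → ZMod 3)) = 0 := finrank_bot _ _; omega) hc
    obtain ⟨b, hb, hab⟩ := exists_apply_eq_perp hQ (Submodule.span (ZMod 3) {a})
      (by rw [Module.finrank_pi, Fintype.card_fin]; have := finrank_one (W := Fin n → ZMod 3) a; omega) hc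
    have hab' : polar Q a b = 0 := hab a (Submodule.subset_span rfl)
    have hP : ∀ t ∈ Submodule.span (ZMod 3) ({a, b} : Set (Fin n → ZMod 3)),
        (∀ y ∈ Submodule.span (ZMod 3) ({a, b} : Set (Fin n → ZMod 3)), polar Q t y = 0) → t = 0 := by
      intro t ht hty
      obtain ⟨g0, g1, rfl⟩ := Submodule.mem_span_pair.1 ht
      have e0 := hty a (Submodule.subset_span (by simp))
      have e1 := hty b (Submodule.subset_span (by simp))
      simp only [polar_add_left', polar_smul_left', polar_self', ha, hb, hab',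
        QuadraticMap.polar_comm (⇑Q) b a] at e0 e1
      simp [hc, two_ne] at e0 e1
      simp [e0, e1]
    obtain ⟨z, hz, hzab⟩ := exists_apply_eq_perp_nondeg hQ hP
      (c := -c) (by rw [Module.finrank_pi, Fintype.card_fin]; have := finrank_two (W := Fin n → ZMod 3) a b; omega)
      (neg_ne_zero.2 hc)
    have hza := hzab a (Submodule.subset_span (by simp))
    have hzb := hzab b (Submodule.subset_span (by simp))
    have hab0 : polar Q a (a + (b + z)) ≠ 0 := by
      rw [polar_add_right', polar_add_right', polar_self', ha, hab', hza, add_zero, add_zero, two_mul]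
      exact two_add_self c hc
    have hn' : Q (a + (b + z)) = c := by
      rw [apply_add, apply_add, ha, hb, hz, hzb, polar_add_right', hab', hza]; ring
    rcases (hall ha hn').resolve_left hab0 with e | e
    · have := congrArg (polar Q b) e
      rw [polar_add_right', polar_add_right', polar_self', hb, QuadraticMap.polar_comm (⇑Q) b a, hab',
        hzb, zero_add, add_zero, two_mul] at this
      exact two_add_self c hc this.symm
    · have := congrArg (polar Q b) e
      rw [QuadraticMap.polar_neg_right, polar_add_right', polar_add_right', polar_self', hb,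
        QuadraticMap.polar_comm (⇑Q) b a, hab', hzb, zero_add, add_zero, two_mul, eq_comm, neg_eq_zero] at this
      exact two_add_self c hc this

theorem pm_of_mk {v w : Fin n → ZMod 3} (hv : Q v = c) (hw : Q w = c)
    (h : (QuotientGroup.mk (elt hc hv) : _ ⧸ Subgroup.center ↥(Cfsg.reflectionSubgroup (⇑Q) c)) =
      QuotientGroup.mk (elt hc hw)) : Pm v w :=
  pm_of_elt hc hv hw (elt_eq_of_mk hc hQ hn hv hw h)

theorem polar_of_commute_mk {v w : Fin n → ZMod 3} (hv : Q v = c) (hw : Q w = c)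
    (h : Commute (QuotientGroup.mk (elt hc hv) : _ ⧸ Subgroup.center ↥(Cfsg.reflectionSubgroup (⇑Q) c))
      (QuotientGroup.mk (elt hc hw))) : polar Q v w = 0 ∨ Pm v w := by
  refine polar_of_commute hc hv hw ?_
  obtain ⟨hw', e⟩ := elt_conj hc hv hw
  have h1 : elt hc hw' = elt hc hw := elt_eq_of_mk hc hQ hn hw' hw (by
    rw [← e, QuotientGroup.mk_mul, QuotientGroup.mk_mul, QuotientGroup.mk_inv, h.eq, mul_inv_cancel_right])
  rw [h1] at e
  exact mul_inv_eq_iff_eq_mul.1 e

end Quotient

/-- A centreless class modelled by the vectors of norm one is the projective reflection group. -/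
theorem exists_equiv [Fact (Nat.Prime 3)] {G : Type u} [Group G] {D : Set G} (hD : IsThreeTranspositionGroup D)
    (hZ : Subgroup.center G = ⊥) {Q : QuadraticForm (ZMod 3) (Fin n → ZMod 3)} {φ : G → Fin n → ZMod 3}
    (hφ : IsModel D Q ⊤ φ) :
    ∃ e : G ≃* ↥(Cfsg.reflectionSubgroup (⇑Q) 1) ⧸ Subgroup.center ↥(Cfsg.reflectionSubgroup (⇑Q) 1),
      e '' D = (QuotientGroup.mk : ↥(Cfsg.reflectionSubgroup (⇑Q) 1) → _) '' reflSet Q 1 := by
  classical
  set R := ↥(Cfsg.reflectionSubgroup (⇑Q) 1)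
  have h1 : (1 : ZMod 3) ≠ 0 := one_ne_zero
  have hq : ∀ a ∈ D, Q (φ a) = 1 := fun a ha => (hφ.mem a ha).2
  let el : G → R := fun a => if ha : a ∈ D then elt h1 (hq a ha) else 1
  have hel : ∀ a (ha : a ∈ D), el a = elt h1 (hq a ha) := fun a ha => dif_pos ha
  have hsurj : ∀ r ∈ reflSet Q 1, ∃ a ∈ D, el a = r := by
    intro r hr
    obtain ⟨v, hv, rfl⟩ := exists_elt h1 hr
    obtain ⟨a, ha, hp⟩ := hφ.surj v Submodule.mem_top hv
    exact ⟨a, ha, by rw [hel a ha]; exact elt_pm h1 _ _ hp⟩
  have hinj : ∀ a ∈ D, ∀ b ∈ D, el a = el b → a = b := fun a ha b hb e => by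
    rw [hel a ha, hel b hb] at e
    exact hφ.inj a ha b hb (pm_of_elt h1 _ _ e)
  have hconj : ∀ a ∈ D, ∀ b ∈ D, el a * el b * (el a)⁻¹ = el (a * b * a⁻¹) := by
    intro a ha b hb
    have hm := hD.2.1 a b hb
    rw [hel a ha, hel b hb, hel _ hm]
    obtain ⟨hw, e⟩ := elt_conj h1 (hq a ha) (hq b hb)
    rw [e]
    refine elt_pm h1 _ _ ?_
    have := hφ.line a ha b hb
    rw [inv_eq hD.1 ha]
    refine Pm.trans (Or.inl ?_) this.symm
    rw [rfl3, inv_one, one_mul]
  -- the graph of the map
  let T : Set (G × R) := (fun a => (a, el a)) '' D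
  set Γ := Subgroup.closure T
  have hinv : ∀ p ∈ Γ, ∀ b ∈ D, p.2 * el b * p.2⁻¹ = el (p.1 * b * p.1⁻¹) := by
    intro p hp
    induction hp using Subgroup.closure_induction with
    | mem p hp => obtain ⟨a, ha, rfl⟩ := hp; exact hconj a ha
    | one => intro b _; simp
    | mul p q _ _ ihp ihq =>
      intro b hb
      have e1 := ihp _ (hD.2.1 q.1 b hb)
      rw [← ihq b hb] at e1
      simp only [Prod.snd_mul, Prod.fst_mul]
      simpa [mul_assoc] using e1
    | inv p _ ih =>
      intro b hb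
      have hb' := hD.2.1 p.1⁻¹ b hb
      rw [inv_inv] at hb'
      have e1 := ih _ hb'
      rw [show p.1 * (p.1⁻¹ * b * p.1) * p.1⁻¹ = b by group] at e1
      refine (conj_back e1).trans (congrArg el ?_)
      simp only [Prod.fst_inv, inv_inv]
  let p2 := (MonoidHom.snd G R).comp Γ.subtype
  let p1 := (MonoidHom.fst G R).comp Γ.subtype
  have hp2 : Function.Surjective p2 := by
    rw [← MonoidHom.range_eq_top, eq_top_iff,
      show (⊤ : Subgroup R) = Subgroup.closure (reflSet Q 1) from Subgroup.closure_closure_coe_preimage.symm,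
      Subgroup.closure_le]
    intro r hr
    obtain ⟨a, ha, rfl⟩ := hsurj r hr
    exact ⟨⟨(a, el a), Subgroup.subset_closure ⟨a, ha, rfl⟩⟩, rfl⟩
  have hp1 : Function.Surjective p1 := by
    rw [← MonoidHom.range_eq_top, eq_top_iff, ← hD.2.2, Subgroup.closure_le]
    intro a ha
    exact ⟨⟨(a, el a), Subgroup.subset_closure ⟨a, ha, rfl⟩⟩, rfl⟩
  have hgen : ∀ r : R, (∀ b ∈ D, r * el b * r⁻¹ = el b) → r ∈ Subgroup.center R := by
    intro r hr
    rw [Subgroup.mem_center_iff]
    intro g
    have hg : g ∈ Subgroup.closure (reflSet Q 1) := by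
      rw [show Subgroup.closure (reflSet Q 1) = ⊤ from Subgroup.closure_closure_coe_preimage]
      exact Subgroup.mem_top g
    have : g ∈ Subgroup.centralizer {r} := by
      refine (Subgroup.closure_le _).2 (fun s hs => ?_) hg
      obtain ⟨a, ha, rfl⟩ := hsurj s hs
      rw [SetLike.mem_coe, Subgroup.mem_centralizer_singleton_iff]
      exact (mul_inv_eq_iff_eq_mul.1 (hr a ha)).symm
    exact Subgroup.mem_centralizer_singleton_iff.1 this
  let F : ↥Γ →* R ⧸ Subgroup.center R := (QuotientGroup.mk' _).comp p2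
  have hker : p1.ker = F.ker := by
    ext ⟨p, hp⟩
    simp only [MonoidHom.mem_ker, F, p1, p2, MonoidHom.comp_apply, Subgroup.coe_subtype, MonoidHom.coe_fst,
      MonoidHom.coe_snd, QuotientGroup.mk'_apply, QuotientGroup.eq_one_iff]
    constructor
    · intro h
      exact hgen _ fun b hb => by rw [hinv p hp b hb, h]; simp
    · intro h
      rw [← Subgroup.mem_bot, ← hZ, Subgroup.mem_center_iff]
      intro g
      have hg : g ∈ Subgroup.closure D := by rw [hD.2.2]; exact Subgroup.mem_top g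
      have : g ∈ Subgroup.centralizer {p.1} := by
        refine (Subgroup.closure_le _).2 (fun b hb => ?_) hg
        rw [SetLike.mem_coe, Subgroup.mem_centralizer_singleton_iff]
        have e1 := hinv p hp b hb
        rw [← Subgroup.mem_center_iff.1 h, mul_inv_cancel_right] at e1
        exact (mul_inv_eq_iff_eq_mul.1 (hinj _ (hD.2.1 p.1 b hb) b hb e1.symm)).symm
      exact Subgroup.mem_centralizer_singleton_iff.1 this
  have hF : Function.Surjective F := (QuotientGroup.mk'_surjective _).comp hp2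
  let e : G ≃* R ⧸ Subgroup.center R :=
    (QuotientGroup.quotientKerEquivOfSurjective p1 hp1).symm.trans
      ((QuotientGroup.quotientMulEquivOfEq hker).trans (QuotientGroup.quotientKerEquivOfSurjective F hF))
  have he : ∀ a ∈ D, e a = QuotientGroup.mk (el a) := by
    intro a ha
    have hm : (QuotientGroup.quotientKerEquivOfSurjective p1 hp1).symm a =
        QuotientGroup.mk ⟨(a, el a), Subgroup.subset_closure ⟨a, ha, rfl⟩⟩ := by
      rw [MulEquiv.symm_apply_eq]; rfl
    show (QuotientGroup.quotientKerEquivOfSurjective F hF) (QuotientGroup.quotientMulEquivOfEq hker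
      ((QuotientGroup.quotientKerEquivOfSurjective p1 hp1).symm a)) = _
    rw [hm]; rfl
  refine ⟨e, Set.Subset.antisymm ?_ ?_⟩
  · rintro _ ⟨a, ha, rfl⟩
    exact ⟨el a, by rw [hel a ha]; exact elt_mem h1 _, (he a ha).symm⟩
  · rintro _ ⟨r, hr, rfl⟩
    obtain ⟨a, ha, rfl⟩ := hsurj r hr
    exact ⟨a, ha, he a ha⟩

end CfsgLib.ThreeTrans.Refl3
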