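import Cfsg.Agent.Lib.ThreeTrans.Classification.Section
import Cfsg.Agent.Lib.ThreeTrans.Refl3.Full
import Cfsg.Agent.Lib.ThreeTrans.Refl3.ToGroup

/-!
Fischer's classification, slice REFL: the reflection groups over three elements rebuilt from their
sections, dimension at least seven (owner: helper6).
-/

set_option autoImplicit false

namespace CfsgLib.ThreeTrans.Refl3

open Cfsg CfsgLib.Classical.Quad Fischer RankThree
open CfsgLib.ThreeTrans.ReflectionsF3 (elt elt_mem exists_elt commute_elt)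
open QuadraticMap (polar polarBilin)

universe u

section Ext

variable {n : ℕ} (Q₀ : QuadraticForm (ZMod 3) (Fin n → ZMod 3)) (c : ZMod 3)

/-- The coordinates but the first, as a linear map. -/
def tailMap (n : ℕ) : (Fin (n + 1) → ZMod 3) →ₗ[ZMod 3] (Fin n → ZMod 3) :=
  LinearMap.funLeft (ZMod 3) (ZMod 3) Fin.succ

/-- The form `x₀² + c Q₀`. -/
def extForm : QuadraticForm (ZMod 3) (Fin (n + 1) → ZMod 3) :=
  c • Q₀.comp (tailMap n) + QuadraticMap.proj 0 0

theorem extForm_apply (v : Fin (n + 1) → ZMod 3) :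
    extForm Q₀ c v = c * Q₀ (Fin.tail v) + v 0 * v 0 := rfl

theorem polar_extForm (v w : Fin (n + 1) → ZMod 3) :
    polar (extForm Q₀ c) v w = c * polar Q₀ (Fin.tail v) (Fin.tail w) + 2 * (v 0 * w 0) := by
  simp only [polar, extForm_apply, Pi.add_apply, show Fin.tail (v + w) = Fin.tail v + Fin.tail w from rfl]
  ring

/-- The first basis vector. -/
def top₀ (n : ℕ) : Fin (n + 1) → ZMod 3 := Fin.cons 1 0

theorem top₀_norm : extForm Q₀ c (top₀ n) = 1 := by simp [extForm_apply, top₀]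

theorem top₀_perp (v : Fin (n + 1) → ZMod 3) : polar (extForm Q₀ c) (top₀ n) v = 2 * v 0 := by
  rw [polar_extForm]; simp [top₀]

theorem cons_norm (v : Fin n → ZMod 3) : extForm Q₀ c (Fin.cons 0 v) = c * Q₀ v := by simp [extForm_apply]

theorem polar_cons (v w : Fin n → ZMod 3) :
    polar (extForm Q₀ c) (Fin.cons 0 v) (Fin.cons 0 w) = c * polar Q₀ v w := by simp [polar_extForm]

theorem nondeg_extForm [Fact (Nat.Prime 3)] (hc : c ≠ 0) (h : (polarBilin Q₀).Nondegenerate) :
    (polarBilin (extForm Q₀ c)).Nondegenerate := by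
  have key : ∀ v, (∀ w, polar (extForm Q₀ c) v w = 0) → v = 0 := by
    intro v hv
    have h0 := hv (top₀ n)
    rw [QuadraticMap.polar_comm, top₀_perp, mul_eq_zero] at h0
    have hv0 : v 0 = 0 := h0.resolve_left two_ne
    have ht : Fin.tail v = 0 := h.1 _ fun w => by
      have := hv (Fin.cons 0 w)
      rw [polar_extForm] at this
      simpa [hc] using this
    rw [← Fin.cons_self_tail v, hv0, ht]
    funext i; refine Fin.cases ?_ ?_ i <;> simp
  exact ⟨fun v hv => key v hv, fun v hv => key v fun w => by rw [QuadraticMap.polar_comm]; exact hv w⟩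

theorem polarGramDet_extForm :
    polarGramDet (⇑(extForm Q₀ c)) = 2 * (c ^ n * polarGramDet (⇑Q₀)) := by
  have h0 : ∀ j : Fin n, polar (extForm Q₀ c) (Pi.single 0 1) (Pi.single j.succ 1) = 0 := fun j => by
    rw [polar_extForm, show Fin.tail (Pi.single (0 : Fin (n + 1)) (1 : ZMod 3) : Fin (n + 1) → ZMod 3) = 0 from
      funext fun i => by simp [Fin.tail, Fin.succ_ne_zero]]
    simp [(Fin.succ_ne_zero j).symm]
  have hs : ∀ j : Fin n, Fin.tail (Pi.single j.succ (1 : ZMod 3) : Fin (n + 1) → ZMod 3) = Pi.single j 1 :=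
    fun j => funext fun i => by simp [Fin.tail, Pi.single_apply]
  unfold polarGramDet
  rw [Matrix.det_succ_row_zero, Fin.sum_univ_succ, Finset.sum_eq_zero (fun j _ => by
    rw [Matrix.of_apply, h0]; ring), add_zero]
  have h00 : polar (extForm Q₀ c) (Pi.single 0 1) (Pi.single 0 1) = 2 := by
    rw [polar_extForm, show Fin.tail (Pi.single (0 : Fin (n + 1)) (1 : ZMod 3) : Fin (n + 1) → ZMod 3) = 0 from
      funext fun i => by simp [Fin.tail, Fin.succ_ne_zero]]
    simp
  rw [Matrix.of_apply, h00, Fin.val_zero, pow_zero, one_mul]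
  congr 1
  rw [show (Matrix.of fun i j : Fin (n + 1) => polar (extForm Q₀ c) (Pi.single i 1) (Pi.single j 1)).submatrix
      Fin.succ (Fin.succAbove 0) = c • Matrix.of fun i j : Fin n => polar Q₀ (Pi.single i 1) (Pi.single j 1) by
    ext i j
    simp only [Matrix.submatrix_apply, Matrix.of_apply, Fin.succAbove_zero, Matrix.smul_apply, smul_eq_mul]
    rw [polar_extForm, hs, hs]
    simp [(Fin.succ_ne_zero i).symm], Matrix.det_smul, Fintype.card_fin]

end Ext

variable [Fact (Nat.Prime 3)] {G : Type u} [Group G] [Finite G] {D : Set G}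

/-- The model of the section, on the members commuting with `d`. -/
theorem exists_local {n : ℕ} (hn : 5 ≤ n) {Q₀ : QuadraticForm (ZMod 3) (Fin n → ZMod 3)}
    (hQ₀ : (polarBilin Q₀).Nondegenerate) {c : ZMod 3} (hc : c ≠ 0) (S : Setting D)
    (hZ : Subgroup.center G = ⊥) {d : G} (hd : d ∈ D) (hcc : CentralCores D d)
    (e₀ : Sec D d ≃* ↥(Cfsg.reflectionSubgroup (⇑Q₀) c) ⧸ Subgroup.center ↥(Cfsg.reflectionSubgroup (⇑Q₀) c))
    (he₀ : e₀ '' secSet D d = (QuotientGroup.mk : ↥(Cfsg.reflectionSubgroup (⇑Q₀) c) → _) '' reflSet Q₀ c) :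
    ∃ ψ, IsModel (nb D d) (extForm Q₀ c) (perp (extForm Q₀ c) (top₀ n)) ψ := by
  classical
  obtain ⟨-, -, -, -, hinj, hcom⟩ := sectionStatement G D S hZ d hd hcc
  have hex : ∀ a : G, a ∈ nb D d → ∃ (v : Fin n → ZMod 3) (hv : Q₀ v = c),
      ∀ ha : a ∈ loc D d, e₀ (QuotientGroup.mk ⟨a, ha⟩) = QuotientGroup.mk (elt hc hv) := by
    intro a ha
    have : e₀ (QuotientGroup.mk ⟨a, mem_loc ha⟩) ∈ e₀ '' secSet D d := ⟨_, ⟨⟨a, mem_loc ha⟩, ha, rfl⟩, rfl⟩
    rw [he₀] at this
    obtain ⟨r, hr, e⟩ := this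
    obtain ⟨v, hv, rfl⟩ := exists_elt hc hr
    exact ⟨v, hv, fun _ => e.symm⟩
  choose! f hf hfe using hex
  have hmk : ∀ {a} (ha : a ∈ nb D d), e₀ (QuotientGroup.mk ⟨a, mem_loc ha⟩) = QuotientGroup.mk (elt hc (hf a ha)) :=
    fun ha => hfe _ ha _
  have hpm : ∀ {v w : Fin n → ZMod 3}, Pm v w →
      Pm (Fin.cons 0 v : Fin (n + 1) → ZMod 3) (Fin.cons 0 w) := by
    rintro v w (rfl | rfl)
    · exact Pm.refl _
    · exact Or.inr (funext fun i => by refine Fin.cases ?_ ?_ i <;> simp)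
  have hsq : c * c = 1 := sq_one c hc
  have hmem : ∀ a ∈ nb D d, (Fin.cons 0 (f a) : Fin (n + 1) → ZMod 3) ∈ perp (extForm Q₀ c) (top₀ n) :=
    fun a _ => by rw [mem_perp, top₀_perp]; simp
  refine ⟨fun a => Fin.cons 0 (f a),
    { mem := fun a ha => ⟨hmem a ha, by rw [cons_norm, hf a ha, hsq]⟩
      inj := fun a ha b hb hp => ?_
      surj := fun v hv hn1 => ?_
      perp := fun a ha b hb hne => ?_
      line := fun a ha b hb => ?_ }⟩
  · have hp' : Pm (f a) (f b) := by
      have := Pm.map (tailMap n) hp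
      simpa [tailMap, LinearMap.funLeft, Function.comp_def] using this
    have e1 : (QuotientGroup.mk ⟨a, mem_loc ha⟩ : Sec D d) = QuotientGroup.mk ⟨b, mem_loc hb⟩ :=
      e₀.injective (by rw [hmk ha, hmk hb, elt_pm hc (hf a ha) (hf b hb) hp'])
    exact congrArg Subtype.val (hinj (show (⟨a, mem_loc ha⟩ : ↥(loc D d)) ∈ _ from ha)
      (show (⟨b, mem_loc hb⟩ : ↥(loc D d)) ∈ _ from hb) e1)
  · rw [mem_perp, top₀_perp, mul_eq_zero] at hv
    have hv0 : v 0 = 0 := hv.resolve_left two_ne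
    rw [extForm_apply, hv0, mul_zero, add_zero] at hn1
    have hvc : Q₀ (Fin.tail v) = c := by
      linear_combination c * hn1 - Q₀ (Fin.tail v) * hsq
    have : (QuotientGroup.mk (elt hc hvc) : _ ⧸ Subgroup.center ↥(Cfsg.reflectionSubgroup (⇑Q₀) c)) ∈
        e₀ '' secSet D d := by rw [he₀]; exact ⟨_, elt_mem hc hvc, rfl⟩
    obtain ⟨_, ⟨⟨a, ha'⟩, ha, rfl⟩, e⟩ := this
    refine ⟨a, ha, (hpm (pm_of_mk hc hQ₀ hn (hf a ha) hvc ?_)).trans (Or.inl ?_)⟩
    · rw [← hmk ha]; exact e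
    · rw [← hv0, Fin.cons_self_tail]
  · show _ ↔ polar (extForm Q₀ c) (Fin.cons 0 (f a)) (Fin.cons 0 (f b)) = 0
    rw [polar_cons, mul_eq_zero_iff_left hc, ← hcom ⟨a, mem_loc ha⟩ ⟨b, mem_loc hb⟩ ha hb]
    constructor
    · intro h
      have h' := h.map e₀
      rw [hmk ha, hmk hb] at h'
      refine (polar_of_commute_mk hc hQ₀ hn _ _ h').resolve_right fun hp => hne ?_
      exact congrArg Subtype.val (hinj (show (⟨a, mem_loc ha⟩ : ↥(loc D d)) ∈ _ from ha)
        (show (⟨b, mem_loc hb⟩ : ↥(loc D d)) ∈ _ from hb)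
        (e₀.injective (by rw [hmk ha, hmk hb, elt_pm hc (hf a ha) (hf b hb) hp])))
    · intro h
      have h' : Commute (e₀ (QuotientGroup.mk ⟨a, mem_loc ha⟩)) (e₀ (QuotientGroup.mk ⟨b, mem_loc hb⟩)) := by
        rw [hmk ha, hmk hb]
        exact Commute.map (commute_elt hc (hf a ha) (hf b hb) h) (QuotientGroup.mk' _)
      simpa using h'.map e₀.symm
  · have hab : a * b * a ∈ nb D d := fold_mem_nb S.grp ha hb
    have e1 : e₀ (QuotientGroup.mk ⟨a * b * a, mem_loc hab⟩) =
        QuotientGroup.mk (elt hc (hf a ha) * elt hc (hf b hb) * elt hc (hf a ha)) := by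
      rw [QuotientGroup.mk_mul, QuotientGroup.mk_mul, ← hmk ha, ← hmk hb, ← map_mul, ← map_mul]
      rfl
    rw [hmk hab] at e1
    obtain ⟨hw, ew⟩ := ReflectionsF3.elt_conj hc (hf a ha) (hf b hb)
    have hx2 : elt hc (hf a ha) * elt hc (hf a ha) = 1 := ReflectionsF3.toOQ_injective (by
      rw [map_mul, map_one, ReflectionsF3.toOQ_elt, refl_mul_self])
    rw [inv_eq_of_mul_eq_one_left hx2] at ew
    rw [ew] at e1
    refine (hpm (pm_of_mk hc hQ₀ hn _ _ e1)).trans (Or.inl ?_)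
    rw [rfl3, polar_cons, show c⁻¹ = c from inv_eq_of_mul_eq_one_left hsq, QuadraticMap.polar_comm (⇑Q₀) (f b)]
    funext i
    refine Fin.cases ?_ ?_ i <;> simp

omit [Fact (Nat.Prime 3)] in
theorem hp_succ (m : ℕ) (b : Bool) : hp (m + 1) b = hp m b + 3 ^ m := by
  have h : 3 ^ m % 2 = 1 := by rw [Nat.pow_mod]; norm_num
  have h1 : 3 ^ (m + 1) = 3 * 3 ^ m := by rw [pow_succ]; ring
  cases b <;> simp only [hp, h1, Bool.false_eq_true, if_false, if_true] <;> omega

omit [Fact (Nat.Prime 3)] in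
/-- The members commuting with one and not with another member. -/
theorem vR_step {N : ℕ} (hN : 6 ≤ N) (b : Bool) : vR N b = 3 * vR (N - 2) b + 3 ^ (N - 2) := by
  obtain ⟨m, rfl | rfl⟩ : ∃ m, N = 2 * m + 4 ∨ N = 2 * m + 5 := ⟨(N - 4) / 2, by omega⟩
  · rw [show 2 * m + 4 - 2 = 2 * (m + 1) by omega]
    simp only [vR, show (2 * m + 4) % 2 = 0 by omega, show (2 * (m + 1)) % 2 = 0 by omega,
      show (2 * m + 4) / 2 = m + 2 by omega, show 2 * (m + 1) / 2 = m + 1 by omega, zero_ne_one, if_false,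
      Nat.add_sub_cancel, show m + 2 - 1 = m + 1 by omega, hp_succ (m + 1)]
    rw [two_mul, pow_add, pow_succ]; ring
  · rw [show 2 * m + 5 - 2 = 2 * m + 3 by omega]
    simp only [vR, show (2 * m + 5) % 2 = 1 by omega, show (2 * m + 3) % 2 = 1 by omega, if_true,
      show (2 * m + 5) / 2 = (m + 1) + 1 by omega, show (2 * m + 3) / 2 = m + 1 by omega, hp_succ (m + 1)]
    rw [show 2 * m + 3 = (m + 1) + ((m + 1) + 1) by omega, pow_add, pow_succ]; ring

theorem disc_ext (N : ℕ) (δ : Bool) {c : ZMod 3} (hc : c ≠ 0) :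
    2 * (c ^ N * discR N (down (N + 1) δ) c) = discR (N + 1) δ 1 := by
  have h3 : (3 : ZMod 3) = 0 := ReflectionsF3.three_zero
  have hsq : c * c = 1 := sq_one c hc
  obtain ⟨j, rfl | rfl⟩ : ∃ j, N = 2 * j ∨ N = 2 * j + 1 := ⟨N / 2, by omega⟩
  · simp only [discR, down, show (2 * j) % 2 = 0 by omega, show (2 * j + 1) % 2 = 1 by omega,
      show 2 * j / 2 = j by omega, show (2 * j + 1) / 2 = j by omega, if_true, one_ne_zero, if_false]
    rw [pow_mul, sq, hsq, one_pow, pow_succ]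
    linear_combination ((if δ then (1 : ZMod 3) else -1) * (-1) ^ j) * h3
  · simp only [discR, down, show (2 * j + 1) % 2 = 1 by omega, show (2 * j + 1 + 1) % 2 = 0 by omega,
      show (2 * j + 1) / 2 = j by omega, show (2 * j + 1 + 1) / 2 = j + 1 by omega, if_true, one_ne_zero, zero_ne_one,
      if_false]
    rw [pow_succ, pow_mul, sq, hsq, one_pow, one_mul, ← mul_assoc c, ← mul_assoc c, hsq, one_mul]
    cases δ <;> simp <;>
      first
        | linear_combination (-1 : ZMod 3) ^ (j + 1) * h3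
        | linear_combination -(-1 : ZMod 3) ^ (j + 1) * h3

omit [Fact (Nat.Prime 3)] in
/-- Slice REFL, the step to dimension at least seven. -/
theorem recon_up {N : ℕ} (hN : 6 ≤ N) (δ : Bool) :
    ReconStatement.{u} (.refl N (down (N + 1) δ)) (.refl (N + 1) δ) := by
  haveI : Fact (Nat.Prime 3) := ⟨Nat.prime_three⟩
  intro _ G _ _ D S hZ d hd hcc _ hf ht
  obtain ⟨Q₀, hQ₀, c, hc, hdisc, e₀, he₀⟩ := hf
  obtain ⟨ψ, hψ⟩ := exists_local (by omega) hQ₀ hc S hZ hd hcc e₀ he₀
  have h : Sect D (extForm Q₀ c) d (top₀ N) ψ :=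
    { grp := S.grp
      trans := fun x hx => class_trans S.cls hd hx
      mem_d := hd
      nondeg := nondeg_extForm Q₀ c hc hQ₀
      norm_e := top₀_norm Q₀ c
      dim := by rw [Module.finrank_pi, Fintype.card_fin]; omega
      model := hψ
      count := Or.inl (by rw [Module.finrank_pi, Fintype.card_fin]; omega) }
  have hfull : h.Full := h.full_of_count fun a ha hnc => by
    have hk : (nb D d).ncard = vR N (down (N + 1) δ) := by
      have := ht.valency d hd
      simpa [Fam.tup, CoreNC.nb, nb] using this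
    have hm : (Polar.cperp D d a).ncard = 3 * vR (N - 2) (down (N + 1) δ) := by
      have := ht.apart d hd a ha hnc
      simpa [Fam.tup, show N + 1 - 3 = N - 2 by omega] using this
    have hsub : Polar.cperp D d a ⊆ {y | y ∈ nb D d ∧ y ∈ nb D a} := fun y hy => by
      obtain ⟨h1, h2⟩ := Polar.cperp_ne hnc hy
      exact ⟨⟨hy.1, h1, hy.2.1.symm⟩, hy.1, h2, hy.2.2.symm⟩
    have := Set.ncard_le_ncard hsub (Set.toFinite _)
    have e := vR_step hN (down (N + 1) δ)
    rw [Module.finrank_pi, Fintype.card_fin, show N + 1 - 3 = N - 2 by omega]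
    omega
  obtain ⟨φ, hφ⟩ := h.exists_model hfull (connected_of_primitive S.grp S.prim S.width)
  obtain ⟨e, he⟩ := exists_equiv S.grp hZ hφ
  exact ⟨extForm Q₀ c, nondeg_extForm Q₀ c hc hQ₀, 1, one_ne_zero,
    by rw [polarGramDet_extForm, hdisc, disc_ext N δ hc], e, he⟩

end CfsgLib.ThreeTrans.Refl3
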