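import Cfsg.Agent.Lib.ThreeTrans.Refl3.Recon
import Cfsg.Agent.Lib.ThreeTrans.Classification.Alias

/-!
Fischer's classification, slice REFL: the two steps to dimension six, from `O⁻(6,2)` and `U₄(2)`
(owner: helper16, on helper6's reconstruction).
-/

set_option autoImplicit false

namespace CfsgLib.ThreeTrans.Refl3

open Cfsg CfsgLib.Classical.Quad Fischer RankThree
open QuadraticMap (polar polarBilin)

universe u

variable {G : Type u} [Group G] [Finite G] {D : Set G}

/-- The step to dimension six from the model of the section in dimension five. -/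
theorem recon_six [Fact (Nat.Prime 3)] (δ : Bool) (S : Setting D) (hZ : Subgroup.center G = ⊥) {d : G}
    (hd : d ∈ D) (hcc : CentralCores D d) (hf : (Fam.refl 5 (!δ)).Model (Sec D d) (secSet D d))
    (ht : HasTup D (Fam.refl 6 δ).tup) : (Fam.refl 6 δ).Model G D := by
  obtain ⟨Q₀, hQ₀, c, hc, hdisc, e₀, he₀⟩ := hf
  obtain ⟨ψ, hψ⟩ := exists_local (le_refl 5) hQ₀ hc S hZ hd hcc e₀ he₀
  have hset : ∀ a, ¬ Commute d a → {y | y ∈ nb D d ∧ y ∈ nb D a} = Polar.cperp D d a := fun a hnc => by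
    ext y
    refine ⟨fun ⟨h1, h2⟩ => ⟨h1.1, h1.2.2.symm, h2.2.2.symm⟩, fun hy => ?_⟩
    obtain ⟨h1, h2⟩ := Polar.cperp_ne hnc hy
    exact ⟨⟨hy.1, h1, hy.2.1.symm⟩, hy.1, h2, hy.2.2.symm⟩
  have htup : (Fam.refl 6 δ).tup =
      if δ then ⟨117, 36, 15, 9, 6⟩ else (⟨126, 45, 12, 18, 3⟩ : Tup) := by
    cases δ <;> decide
  have h : Sect D (extForm Q₀ c) d (top₀ 5) ψ :=
    { grp := S.grp
      trans := fun x hx => class_trans S.cls hd hx
      mem_d := hd
      nondeg := nondeg_extForm Q₀ c hc hQ₀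
      norm_e := top₀_norm Q₀ c
      dim := by rw [Module.finrank_pi, Fintype.card_fin]
      model := hψ
      count := Or.inr ⟨(Fam.refl 6 δ).tup.nu, fun a ha hnc => ⟨fun z hz hza => by
        have hzc : z ∈ Polar.cperp D d a := hset a hnc ▸ (⟨hz, hza⟩ : z ∈ {y | y ∈ nb D d ∧ y ∈ nb D a})
        rw [← ht.inner d hd a ha hnc z hzc, ← hset a hnc]
        exact congrArg Set.ncard (Set.ext fun q =>
          ⟨fun ⟨h1, h2⟩ => ⟨h1, h2.2.1, h2.2.2⟩, fun ⟨h1, h2, h3⟩ => ⟨h1, h1.1.1, h2, h3⟩⟩),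
        by
          rw [hset a hnc, ht.apart d hd a ha hnc, htup]
          cases δ <;> simp⟩⟩ }
  have hfull : h.Full := h.full_of_count fun a ha hnc => by
    have hk : (nb D d).ncard = (Fam.refl 6 δ).tup.k := ht.valency d hd
    rw [hk, hset a hnc, ht.apart d hd a ha hnc, htup, Module.finrank_pi, Fintype.card_fin]
    cases δ <;> simp
  obtain ⟨φ, hφ⟩ := h.exists_model hfull (connected_of_primitive S.grp S.prim S.width)
  obtain ⟨e, he⟩ := exists_equiv S.grp hZ hφ
  refine ⟨extForm Q₀ c, nondeg_extForm Q₀ c hc hQ₀, 1, one_ne_zero, ?_, e, he⟩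
  rw [polarGramDet_extForm, hdisc, ← disc_ext 5 δ hc]
  cases δ <;> rfl

/-- Slice REFL, `O⁻(6,2)` below `refl 6 +`. -/
theorem recon_six_plus : ReconStatement.{u} (.oMinus 3) (.refl 6 true) := by
  haveI : Fact (Nat.Prime 3) := ⟨Nat.prime_three⟩
  intro _ G _ _ D S hZ d hd hcc _ hf ht
  exact recon_six true S hZ hd hcc ((aliasStatement (Sec D d) (secSet D d)).2.1.1 hf) ht

/-- Slice REFL, `U₄(2)` below `refl 6 -`. -/
theorem recon_six_minus : ReconStatement.{u} (.unit 4) (.refl 6 false) := by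
  haveI : Fact (Nat.Prime 3) := ⟨Nat.prime_three⟩
  intro _ G _ _ D S hZ d hd hcc _ hf ht
  exact recon_six false S hZ hd hcc ((aliasStatement (Sec D d) (secSet D d)).2.2.1.1 hf) ht

end CfsgLib.ThreeTrans.Refl3
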