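import Cfsg.Agent.Lib.ThreeTrans.Refl3.Small.Span6

/-!
The pairs `{a, d a d}` of members not commuting with `d` and the isotropic lines (owner: helper6).
-/

set_option autoImplicit false

namespace CfsgLib.ThreeTrans.Refl3

open Cfsg CfsgLib.Classical.Quad
open QuadraticMap (polar polarBilin)

universe u v

theorem self_aux : ∀ t : ZMod 3, t - t * (2 * 1) = 0 → t = 0 := by decide

theorem same_aux : ∀ t t' b : ZMod 3, b ≠ 0 → t * (b * b) - t' * (b * b) = 0 → t = t' := by decide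

theorem neg_add_self' : ∀ t : ZMod 3, -t + -t * 2 = 0 := by decide

theorem perp_aux : ∀ t : ZMod 3, t ≠ 0 → -t * t - 2 * 1 = 0 := by decide

theorem refl_aux₁ : ∀ t : ZMod 3, t ≠ 0 → -(t - t * (2 * 1)) - t = 0 := by decide

theorem refl_aux₂ : ∀ t : ZMod 3, t ≠ 0 → -(t - t * (2 * 1)) * -t - 1 - 1 = 0 := by decide

theorem iso_norm : ∀ t : ZMod 3, t ≠ 0 → t * t * 1 + 1 + t * t = 0 := by decide

theorem iso_polar : ∀ s t p : ZMod 3, s ≠ 0 → t ≠ 0 →
    (p = 0 ↔ s * (t * p) + s * s + (t * t + 2 * 1) = 1) := by decide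

variable [Fact (Nat.Prime 3)] {G : Type u} [Group G] {W : Type v} [AddCommGroup W] [Module (ZMod 3) W]
  [FiniteDimensional (ZMod 3) W] {Q : QuadraticForm (ZMod 3) W}

/-- The part orthogonal to `e` of a vector of norm one, scaled so that the vector is `±(e + isoPart e v)`. -/
def isoPart (Q : QuadraticForm (ZMod 3) W) (e v : W) : W := -polar Q v e • v - e

section Iso

variable {e : W} (he : Q e = 1)
include he

omit [FiniteDimensional (ZMod 3) W] in
theorem isoPart_pm {v v' : W} (h : Pm v v') : isoPart Q e v = isoPart Q e v' := by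
  rcases h with rfl | rfl
  · rfl
  · rw [isoPart, isoPart, QuadraticMap.polar_neg_left]; module

omit [FiniteDimensional (ZMod 3) W] in
theorem isoPart_perp {v : W} (h : polar Q v e ≠ 0) : polar Q e (isoPart Q e v) = 0 := by
  rw [isoPart, QuadraticMap.polar_sub_right, polar_smul_right', polar_self', he, QuadraticMap.polar_comm (⇑Q) e v]
  exact perp_aux _ h

omit [FiniteDimensional (ZMod 3) W] in
theorem isoPart_norm {v : W} (hv : Q v = 1) (h : polar Q v e ≠ 0) : Q (isoPart Q e v) = 0 := by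
  rw [isoPart, sub_eq_add_neg, apply_add, apply_smul, QuadraticMap.map_neg, hv, he, QuadraticMap.polar_neg_right,
    polar_smul_left']
  linear_combination iso_norm (polar Q v e) h

omit [FiniteDimensional (ZMod 3) W] in
theorem isoPart_add {v : W} : e + isoPart Q e v = -polar Q v e • v := by rw [isoPart]; abel

omit [FiniteDimensional (ZMod 3) W] in
theorem isoPart_pm_add {v : W} (h : polar Q v e ≠ 0) : Pm v (e + isoPart Q e v) := by
  rw [isoPart_add he]
  rcases sign_cases _ h with e1 | e1 <;> rw [e1]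
  · exact Or.inr (by simp)
  · exact Or.inl (by simp)

omit [FiniteDimensional (ZMod 3) W] in
theorem isoPart_polar {v w : W} (hv : polar Q v e ≠ 0) (hw : polar Q w e ≠ 0) :
    polar Q v w = 0 ↔ polar Q (isoPart Q e v) (isoPart Q e w) = 1 := by
  simp only [isoPart, QuadraticMap.polar_sub_left, QuadraticMap.polar_sub_right, polar_smul_left',
    polar_smul_right', polar_self', he, QuadraticMap.polar_comm (⇑Q) e w]
  rw [iso_polar _ _ (polar Q v w) hv hw]
  constructor <;> intro h <;> linear_combination h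

omit [FiniteDimensional (ZMod 3) W] in
theorem isoPart_perp_iff {v p : W} (hv : polar Q v e ≠ 0) (hp : polar Q e p = 0) :
    polar Q p v = 0 ↔ polar Q p (isoPart Q e v) = 0 := by
  rw [isoPart, QuadraticMap.polar_sub_right, polar_smul_right', QuadraticMap.polar_comm (⇑Q) p e, hp, sub_zero,
    mul_eq_zero_iff_left (neg_ne_zero.2 hv)]

omit [FiniteDimensional (ZMod 3) W] in
theorem isoPart_of {u : W} (hu : polar Q e u = 0) : isoPart Q e (e + u) = u := by
  rw [isoPart, polar_add_left', polar_self', he, QuadraticMap.polar_comm (⇑Q) u e, hu, add_zero, mul_one,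
    show -(2 : ZMod 3) = 1 from aux, one_smul]
  abel
where
  aux : -(2 : ZMod 3) = 1 := neg_two_mul' (t := 1) ▸ by rw [mul_one]

omit [FiniteDimensional (ZMod 3) W] in
theorem isoPart_rfl3 {v : W} (h : polar Q v e ≠ 0) : isoPart Q e (rfl3 Q e v) = -isoPart Q e v := by
  rw [isoPart, isoPart, rfl3, QuadraticMap.polar_sub_left, polar_smul_left', polar_self', he]
  match_scalars
  · linear_combination refl_aux₁ _ h
  · linear_combination refl_aux₂ _ h

end Iso

/-- The data: the members commuting with `d` are modelled on the complement of `e`. -/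
structure Sect (D : Set G) (Q : QuadraticForm (ZMod 3) W) (d : G) (e : W) (ψ : G → W) : Prop where
  grp : IsThreeTranspositionGroup D
  trans : ∀ x ∈ D, ∃ g : G, g * d * g⁻¹ = x
  mem_d : d ∈ D
  nondeg : (polarBilin Q).Nondegenerate
  norm_e : Q e = 1
  dim : 6 ≤ Module.finrank (ZMod 3) W
  model : IsModel (nb D d) Q (perp Q e) ψ
  /-- In dimension six: the valency among the common neighbours is constant, and is not three or they are many. -/
  count : 7 ≤ Module.finrank (ZMod 3) W ∨ ∃ ν : ℕ, ∀ a ∈ D, ¬ Commute d a →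
    (∀ z ∈ nb D d, z ∈ nb D a → {q | (q ∈ nb D d ∧ q ∈ nb D a) ∧ q ∈ nb D z}.ncard = ν) ∧
      (ν ≠ 3 ∨ 10 < {q | q ∈ nb D d ∧ q ∈ nb D a}.ncard)

/-- A model of the members commuting with `x` fitting the one at `d`. -/
structure IsChart (D : Set G) (Q : QuadraticForm (ZMod 3) W) (d : G) (e : W) (ψ : G → W) (x : G) (F : G → W) :
    Prop where
  model : IsModel (nb D x) Q (perp Q (ψ x)) F
  base : Pm (F d) e
  agree : ∀ a ∈ nb D d, a ∈ nb D x → Pm (F a) (ψ a)

namespace Sect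

variable {D : Set G} {d : G} {e : W} {ψ : G → W} (h : Sect D Q d e ψ)
include h

theorem norm_ψ {x : G} (hx : x ∈ nb D d) : Q (ψ x) = 1 := (h.model.mem x hx).2

theorem perp_ψ {x : G} (hx : x ∈ nb D d) : polar Q e (ψ x) = 0 := (h.model.mem x hx).1

omit [FiniteDimensional (ZMod 3) W] in
theorem mem_nb_symm {x : G} (hx : x ∈ nb D d) : d ∈ nb D x := ⟨h.mem_d, Ne.symm hx.2.1, hx.2.2.symm⟩

theorem exists_chart {x : G} (hx : x ∈ nb D d) : ∃ F, IsChart D Q d e ψ x F := by
  classical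
  have hQ := h.nondeg
  have he := h.norm_e
  set xv := ψ x with hxv
  have hxn : Q xv = 1 := h.norm_ψ hx
  have hex : polar Q e xv = 0 := h.perp_ψ hx
  have hxe : polar Q xv e = 0 := by rw [QuadraticMap.polar_comm]; exact hex
  obtain ⟨g, hg⟩ := h.trans x hx.1
  have hF0 := h.model.conj h.grp hg
  set w := xv - e with hw
  have hwn : Q w = 2 := by
    rw [hw, sub_eq_add_neg, apply_add, QuadraticMap.map_neg, hxn, he, QuadraticMap.polar_neg_right, hxe]; ring
  have hwn0 : Q w ≠ 0 := by rw [hwn]; exact two_ne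
  set s := refl hwn0 with hs
  have hse : (s : W ≃ₗ[ZMod 3] W) e = xv := by
    rw [hs, refl_apply, hwn, hw, QuadraticMap.polar_sub_right, hex, polar_self', he, zero_sub, mul_one, mul_neg,
      inv_mul_cancel₀ two_ne]
    module
  have hsx : (s : W ≃ₗ[ZMod 3] W) xv = e := by
    rw [hs, refl_apply, hwn, hw, QuadraticMap.polar_sub_right, hxe, polar_self', hxn, sub_zero, mul_one,
      inv_mul_cancel₀ two_ne]
    module
  have hF1 := hF0.map (U' := perp Q xv) s (fun v => by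
    rw [mem_perp, mem_perp, ← hse, OQ.map_polar])
  have hdx := h.mem_nb_symm hx
  set p := (s : W ≃ₗ[ZMod 3] W) (ψ (g⁻¹ * d * g)) with hp
  obtain ⟨hp1, hp2⟩ : p ∈ perp Q xv ∧ Q p = 1 := hF1.mem d hdx
  have hnot : ∀ v : W, Q v = 1 → polar Q xv v = 0 → v ∉ Submodule.span (ZMod 3) {xv} := fun v hv1 hv2 hv => by
    obtain ⟨t, rfl⟩ := Submodule.mem_span_singleton.1 hv
    rw [polar_smul_right', mul_eq_zero] at hv2
    rcases hv2 with rfl | h0
    · simp at hv1
    · exact polar_self_ne hxn h0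
  obtain ⟨k, hk, hkp⟩ := witt_step hQ (hnot p hp2 hp1) (hnot e he hxe) (by rw [he, hp2]) (fun u hu => by
    obtain ⟨t, rfl⟩ := Submodule.mem_span_singleton.1 hu
    rw [polar_smul_left', polar_smul_left', hxe, show polar Q xv p = 0 from hp1])
  have hkx : (k : W ≃ₗ[ZMod 3] W) xv = xv := hk xv (Submodule.subset_span rfl)
  have hF2 := hF1.map (U' := perp Q xv) k (fun v => by
    rw [mem_perp, mem_perp]
    conv_lhs => rw [← hkx, OQ.map_polar])
  set F2 : G → W := fun a => (k : W ≃ₗ[ZMod 3] W) ((s : W ≃ₗ[ZMod 3] W) (ψ (g⁻¹ * a * g))) with hF2def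
  have hF2d : F2 d = e := hkp
  -- compare on the common neighbours
  have hpre : ∀ v, Q v = 1 → polar Q xv v = 0 → polar Q e v = 0 → ∃ a, a ∈ nb D d ∧ a ∈ nb D x ∧ Pm (ψ a) v := by
    intro v hv hvx hve
    obtain ⟨a, ha, hav⟩ := h.model.surj v hve hv
    obtain ⟨hne, hc⟩ := h.model.perp' hx ha ((Pm.polar_iff (Pm.refl xv) hav).2 hvx)
    exact ⟨a, ha, ⟨ha.1, hne.symm, hc⟩, hav⟩
  let f : W → W := fun v => if hv : Q v = 1 ∧ polar Q xv v = 0 ∧ polar Q e v = 0 then
    F2 (hpre v hv.1 hv.2.1 hv.2.2).choose else v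
  have hf : ∀ v, Q v = 1 → polar Q xv v = 0 → polar Q e v = 0 → ∀ a, a ∈ nb D d → Pm (ψ a) v → f v = F2 a := by
    intro v hv hvx hve a ha hav
    simp only [f, dif_pos (show Q v = 1 ∧ polar Q xv v = 0 ∧ polar Q e v = 0 from ⟨hv, hvx, hve⟩)]
    obtain ⟨h1, -, h3⟩ := (hpre v hv hvx hve).choose_spec
    rw [h.model.inj _ h1 a ha (h3.trans hav.symm)]
  obtain ⟨ext, hx', he', hext⟩ := exists_extension hQ hxn he hxe h.dim f
    (fun v hv hvx hve => by
      obtain ⟨a, ha, hax, hav⟩ := hpre v hv hvx hve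
      rw [hf v hv hvx hve a ha hav]
      refine ⟨(hF2.mem a hax).2, (hF2.mem a hax).1, ?_⟩
      rw [← hF2d, QuadraticMap.polar_comm]
      exact (hF2.perp a hax d hdx ha.2.1).1 ha.2.2.symm)
    (fun v w hv hvx hve hw' hwx hwe => by
      obtain ⟨a, ha, hax, hav⟩ := hpre v hv hvx hve
      obtain ⟨b, hb, hbx, hbw⟩ := hpre w hw' hwx hwe
      rw [hf v hv hvx hve a ha hav, hf w hw' hwx hwe b hb hbw]
      by_cases hab : a = b
      · subst hab
        exact iff_of_false (polar_self_ne (hF2.mem a hax).2) fun h0 =>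
          polar_self_ne (h.norm_ψ ha) ((Pm.polar_iff hav hbw).2 h0)
      · rw [← Pm.polar_iff hav hbw, ← h.model.perp a ha b hb hab]
        exact (hF2.perp a hax b hbx hab).symm)
    (fun v hv hvx hve => by
      obtain ⟨a, ha, hax, hav⟩ := hpre v hv hvx hve
      rw [hf v hv hvx hve a ha hav, hf (-v) (by rwa [QuadraticMap.map_neg])
        (by rw [QuadraticMap.polar_neg_right, hvx, neg_zero]) (by rw [QuadraticMap.polar_neg_right, hve, neg_zero])
        a ha (hav.trans (Or.inr (neg_neg v).symm))]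
      exact Pm.refl _)
    (fun v w hv hvx hve hw' hwx hwe => by
      obtain ⟨a, ha, hax, hav⟩ := hpre v hv hvx hve
      obtain ⟨b, hb, hbx, hbw⟩ := hpre w hw' hwx hwe
      rw [hf v hv hvx hve a ha hav, hf w hw' hwx hwe b hb hbw,
        hf _ (by rw [apply_rfl3 hv, hw'])
          (by rw [rfl3, QuadraticMap.polar_sub_right, polar_smul_right', hwx, hvx]; ring)
          (by rw [rfl3, QuadraticMap.polar_sub_right, polar_smul_right', hwe, hve]; ring)
          (a * b * a) (fold_mem_nb h.grp ha hb) ((h.model.line a ha b hb).trans (rfl3_pm hav hbw))]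
      exact hF2.line a hax b hbx)
  refine ⟨fun a => (ext : W ≃ₗ[ZMod 3] W).symm (F2 a), ?_, ?_, fun a ha hax => ?_⟩
  · exact hF2.map (U' := perp Q xv) ext⁻¹ (fun v => by
      rw [mem_perp, mem_perp]
      conv_lhs => rw [← show ((ext⁻¹ : OQ Q) : W ≃ₗ[ZMod 3] W) xv = xv from
        (LinearEquiv.symm_apply_eq _).2 hx'.symm, OQ.map_polar])
  · show Pm ((ext : W ≃ₗ[ZMod 3] W).symm (F2 d)) e
    rw [hF2d, (LinearEquiv.symm_apply_eq _).2 he'.symm]
    exact Pm.refl _
  · have h1 : polar Q xv (ψ a) = 0 := (h.model.perp x hx a ha (Ne.symm hax.2.1)).1 hax.2.2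
    have h2 := hext (ψ a) (h.norm_ψ ha) h1 (h.perp_ψ ha)
    rw [hf _ (h.norm_ψ ha) h1 (h.perp_ψ ha) a ha (Pm.refl _)] at h2
    exact (Pm.map (ext : W ≃ₗ[ZMod 3] W).symm h2).trans (Or.inl (LinearEquiv.symm_apply_apply _ _))

/-- The chosen chart. -/
noncomputable def chart (h : Sect D Q d e ψ) (x : G) : G → W :=
  haveI := Classical.propDecidable
  if hx : x ∈ nb D d then (h.exists_chart hx).choose else fun _ => 0

theorem isChart {x : G} (hx : x ∈ nb D d) : IsChart D Q d e ψ x (h.chart x) := by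
  rw [chart, dif_pos hx]; exact (h.exists_chart hx).choose_spec

/-- The members not commuting with `d` but with a member commuting with it. -/
def Far (_ : Sect D Q d e ψ) (a : G) : Prop := a ∈ D ∧ ¬ Commute d a ∧ ∃ x ∈ nb D d, x ∈ nb D a

/-- The isotropic vector of `a` in the chart at `x`. -/
noncomputable def vec (h : Sect D Q d e ψ) (x a : G) : W := isoPart Q e (h.chart x a)

theorem chart_polar {x a : G} (hx : x ∈ nb D d) (ha : a ∈ nb D x) (hnc : ¬ Commute d a) :
    polar Q (h.chart x a) e ≠ 0 := by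
  intro h0
  have hc := h.isChart hx
  exact hnc (hc.model.perp' ha (h.mem_nb_symm hx) ((Pm.polar_iff (Pm.refl _) hc.base).2 h0)).2.symm

theorem vec_spec {x a : G} (hx : x ∈ nb D d) (ha : a ∈ nb D x) (hnc : ¬ Commute d a) :
    Q (h.vec x a) = 0 ∧ polar Q e (h.vec x a) = 0 ∧ h.vec x a ≠ 0 ∧ polar Q (ψ x) (h.vec x a) = 0 := by
  have hc := h.isChart hx
  have hp := h.chart_polar hx ha hnc
  refine ⟨isoPart_norm h.norm_e (hc.model.mem a ha).2 hp, isoPart_perp h.norm_e hp, fun h0 => ?_, ?_⟩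
  · have h1 := isoPart_pm_add h.norm_e hp
    rw [← vec, h0, add_zero] at h1
    exact hnc (hc.model.inj a ha d (h.mem_nb_symm hx) (h1.trans hc.base.symm) ▸ Commute.refl d)
  · exact (isoPart_perp_iff h.norm_e hp (h.perp_ψ hx)).1 (hc.model.mem a ha).1

/-- Near `x`, the members commuting with `a` and `d` are the ones orthogonal to the vector of `a`. -/
theorem mem_iff {x y a : G} (hx : x ∈ nb D d) (ha : a ∈ nb D x) (hnc : ¬ Commute d a) (hy : y ∈ nb D d)
    (hyx : y ∈ nb D x) : y ∈ nb D a ↔ polar Q (ψ y) (h.vec x a) = 0 := by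
  have hc := h.isChart hx
  have hne : y ≠ a := fun e => hnc (e ▸ hy.2.2)
  rw [vec, ← isoPart_perp_iff h.norm_e (h.chart_polar hx ha hnc) (h.perp_ψ hy),
    ← Pm.polar_iff (hc.agree y hy hyx) (Pm.refl _), ← hc.model.perp y hyx a ha hne]
  exact ⟨fun hh => hh.2.2.symm, fun hh => ⟨hy.1, hne, hh.symm⟩⟩

theorem vec_span [Finite G] {x y a : G} (hx : x ∈ nb D d) (hy : y ∈ nb D d) (hxy : y ∈ nb D x) (hax : a ∈ nb D x)
    (hay : a ∈ nb D y) (hnc : ¬ Commute d a) : ∃ t : ZMod 3, t ≠ 0 ∧ h.vec y a = t • h.vec x a := by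
  obtain ⟨hux, hex, -, hxx⟩ := h.vec_spec hx hax hnc
  obtain ⟨huy, hey, hy0, hyy⟩ := h.vec_spec hy hay hnc
  have hxy' : polar Q (ψ x) (ψ y) = 0 := (h.model.perp x hx y hy (Ne.symm hxy.2.1)).1 hxy.2.2
  have hyx_mem : x ∈ nb D y := ⟨hx.1, Ne.symm hxy.2.1, hxy.2.2.symm⟩
  have hyxv : polar Q (ψ y) (h.vec x a) = 0 :=
    (h.mem_iff hx hax hnc hy hxy).1 ⟨hy.1, Ne.symm hay.2.1, hay.2.2.symm⟩
  have hxyv : polar Q (ψ x) (h.vec y a) = 0 :=
    (h.mem_iff hy hay hnc hx hyx_mem).1 ⟨hx.1, Ne.symm hax.2.1, hax.2.2.symm⟩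
  set C := Submodule.span (ZMod 3) ({e, ψ x, ψ y} : Set W)
  have hC : NonDeg Q C := nondeg_triple h.norm_e (h.norm_ψ hx) (h.norm_ψ hy) (h.perp_ψ hx) (h.perp_ψ hy) hxy'
  have hperpC : ∀ {v : W}, polar Q e v = 0 → polar Q (ψ x) v = 0 → polar Q (ψ y) v = 0 → ∀ c ∈ C, polar Q c v = 0 := by
    intro v h1 h2 h3 c hc
    obtain ⟨r, s, t, rfl⟩ := Submodule.mem_span_triple.1 hc
    simp [polar_add_left', polar_smul_left', h1, h2, h3]
  by_cases hpex : ∃ p, Q p = 1 ∧ (∀ c ∈ C, polar Q c p = 0) ∧ polar Q (h.vec x a) p = 0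
  swap
  · have h7 : ¬ 7 ≤ Module.finrank (ZMod 3) W := fun h7 => by
      obtain ⟨p, hp, hpC, hpu⟩ := exists_point h.nondeg hC (Submodule.span (ZMod 3) {h.vec x a}) (by
        have : Module.finrank (ZMod 3) C ≤ 3 := finrank_three e (ψ x) (ψ y)
        have := finrank_one (W := W) (h.vec x a)
        omega)
      exact hpex ⟨p, hp, hpC, hpu _ (Submodule.subset_span rfl)⟩
    obtain ⟨ν, hν⟩ := h.count.resolve_left h7
    obtain ⟨hval, hbig⟩ := hν a hax.1 hnc
    have := span_of_count h.grp h.model h.nondeg (by have := h.dim; omega) h.norm_e hx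
      ⟨hx.1, Ne.symm hax.2.1, hax.2.2.symm⟩ hy ⟨hy.1, Ne.symm hay.2.1, hay.2.2.symm⟩
      hxy hux hex (h.vec_spec hx hax hnc).2.2.1 hxx hyxv huy hey hy0 hxyv hyy
      (fun z hz hzx => h.mem_iff hx hax hnc hz hzx) (fun z hz hzy => h.mem_iff hy hay hnc hz hzy)
      (fun p hp h1 h2 h3 h4 => hpex ⟨p, hp, hperpC h1 h2 h3, h4⟩) hval hbig
    obtain ⟨t, ht⟩ := Submodule.mem_span_singleton.1 this
    exact ⟨t, fun e0 => hy0 (by rw [← ht, e0, zero_smul]), ht.symm⟩
  have := mem_span_of_point h.nondeg hC hux huy (hperpC hex hxx hyxv) (hperpC hey hxyv hyy) hpex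
    fun p hp hpC hpu => by
      obtain ⟨z, hz, hzp⟩ := h.model.surj p (hpC e (Submodule.subset_span (by simp))) hp
      have near : ∀ {x' : G}, x' ∈ nb D d → ψ x' ∈ ({e, ψ x, ψ y} : Set W) → z ∈ nb D x' := fun {x'} hx' hm => by
        obtain ⟨hne, hcm⟩ := h.model.perp' hx' hz
          ((Pm.polar_iff (Pm.refl _) hzp).2 (hpC _ (Submodule.subset_span hm)))
        exact ⟨hz.1, hne.symm, hcm⟩
      have hza : z ∈ nb D a := (h.mem_iff hx hax hnc hz (near hx (by simp))).2
        ((Pm.polar_iff hzp (Pm.refl _)).2 (by rw [QuadraticMap.polar_comm]; exact hpu))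
      rw [QuadraticMap.polar_comm]
      exact (Pm.polar_iff hzp (Pm.refl _)).1 ((h.mem_iff hy hay hnc hz (near hy (by simp))).1 hza)
  obtain ⟨t, ht⟩ := Submodule.mem_span_singleton.1 this
  exact ⟨t, fun e0 => hy0 (by rw [← ht, e0, zero_smul]), ht.symm⟩

omit [FiniteDimensional (ZMod 3) W] in
theorem self_mem_nb_comm {y a : G} (ha : a ∈ D) (hy : y ∈ nb D a) : a ∈ nb D y :=
  ⟨ha, Ne.symm hy.2.1, hy.2.2.symm⟩

theorem line_conj {x z a : G} (hx : x ∈ nb D d) (hxa : x ∈ nb D a) (hz : z ∈ nb D d) (haz : a ∈ nb D z)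
    (hnc : ¬ Commute d a) :
    ∃ t : ZMod 3, t ≠ 0 ∧ h.vec (x * z * x) a = t • rfl3 Q (ψ x) (h.vec z a) := by
  have hD := h.grp
  have hza : z ∈ nb D a := ⟨hz.1, Ne.symm haz.2.1, haz.2.2.symm⟩
  set z' := x * z * x with hz'
  have hz'd : z' ∈ nb D d := fold_mem_nb hD hx hz
  have hz'a : z' ∈ nb D a := fold_mem_nb hD hxa hza
  have haz' : a ∈ nb D z' := h.self_mem_nb_comm haz.1 hz'a
  obtain ⟨hu, heu, -, hzu⟩ := h.vec_spec hz haz hnc
  obtain ⟨hu', heu', hu0', hzu'⟩ := h.vec_spec hz'd haz' hnc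
  have hxn := h.norm_ψ hx
  set w := rfl3 Q (ψ x) (h.vec z a) with hw
  have hwz : polar Q (ψ z') w = 0 := by
    rw [Pm.polar_iff (h.model.line x hx z hz) (Pm.refl _), hw, polar_rfl3 hxn]; exact hzu
  have hew : polar Q e w = 0 := by
    rw [hw, rfl3, QuadraticMap.polar_sub_right, polar_smul_right', heu, h.perp_ψ hx]; ring
  have hex : polar Q e (ψ z') = 0 := h.perp_ψ hz'd
  have hC := nondeg_pair h.norm_e (h.norm_ψ hz'd) hex
  have hspan := mem_span_of_points h.nondeg hC (u := w) (w := h.vec z' a) (by rw [hw, apply_rfl3 hxn, hu]) hu'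
    (fun c hc => by
      obtain ⟨r, s, rfl⟩ := Submodule.mem_span_pair.1 hc
      simp [polar_add_left', polar_smul_left', hew, hwz])
    (fun c hc => by
      obtain ⟨r, s, rfl⟩ := Submodule.mem_span_pair.1 hc
      simp [polar_add_left', polar_smul_left', heu', hzu'])
    (by have := finrank_two (W := W) e (ψ z'); have := h.dim; omega)
    fun p hp hpC hwp => by
      obtain ⟨y, hy, hyp⟩ := h.model.surj p (hpC e (Submodule.subset_span (by simp))) hp
      obtain ⟨hne, hc⟩ := h.model.perp' hz'd hy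
        ((Pm.polar_iff (Pm.refl _) hyp).2 (hpC _ (Submodule.subset_span (by simp))))
      have hyz' : y ∈ nb D z' := ⟨hy.1, hne.symm, hc⟩
      set y' := x * y * x with hy'
      have hy'd : y' ∈ nb D d := fold_mem_nb hD hx hy
      have hline : Pm (ψ y') (rfl3 Q (ψ x) p) := (h.model.line x hx y hy).trans (rfl3_pm (Pm.refl _) hyp)
      have hinv : ∀ v, rfl3 Q (ψ x) (rfl3 Q (ψ x) v) = v := fun v => by
        rw [rfl3, rfl3, QuadraticMap.polar_sub_left, polar_smul_left', polar_self', hxn]; module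
      have hy'z : y' ∈ nb D z := by
        obtain ⟨n1, c1⟩ := h.model.perp' hz hy'd ((Pm.polar_iff (Pm.refl _) hline).2 (by
          rw [← hinv (ψ z), polar_rfl3 hxn]
          exact (Pm.polar_iff (h.model.line x hx z hz) (Pm.refl _)).1 (hpC (ψ z') (Submodule.subset_span (by simp)))))
        exact ⟨hy'd.1, n1.symm, c1⟩
      have hy'a : y' ∈ nb D a := (h.mem_iff hz haz hnc hy'd hy'z).2 ((Pm.polar_iff hline (Pm.refl _)).2 (by
        rw [← hinv (h.vec z a), polar_rfl3 hxn, ← hw, QuadraticMap.polar_comm]; exact hwp))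
      have hya : y ∈ nb D a := by
        have := fold_mem_nb hD hxa hy'a
        rwa [show x * y' * x = y by
          rw [hy']; simp [mul_assoc, mul_self hD.1 hx.1, mul_self_assoc hD.1 hx.1]] at this
      rw [QuadraticMap.polar_comm]
      exact (Pm.polar_iff hyp (Pm.refl _)).1 ((h.mem_iff hz'd haz' hnc hy hyz').1 hya)
  obtain ⟨t, ht⟩ := Submodule.mem_span_singleton.1 hspan
  exact ⟨t, fun e0 => hu0' (by rw [← ht, e0, zero_smul]), ht.symm⟩

theorem line_agree [Finite G] {x z a : G} (hx : x ∈ nb D d) (hax : a ∈ nb D x) (hz : z ∈ nb D d) (haz : a ∈ nb D z)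
    (hnc : ¬ Commute d a) : ∃ t : ZMod 3, t ≠ 0 ∧ h.vec z a = t • h.vec x a := by
  by_cases hxz : z = x
  · exact ⟨1, one_ne_zero, by rw [hxz, one_smul]⟩
  by_cases hc : Commute x z
  · exact h.vec_span hx hz ⟨hz.1, hxz, hc⟩ hax haz hnc
  obtain ⟨hu, heu, hu0, hxu⟩ := h.vec_spec hx hax hnc
  obtain ⟨huz, -, -, hzu⟩ := h.vec_spec hz haz hnc
  have hxa : x ∈ nb D a := ⟨hx.1, Ne.symm hax.2.1, hax.2.2.symm⟩
  have hza : z ∈ nb D a := ⟨hz.1, Ne.symm haz.2.1, haz.2.2.symm⟩
  set w := h.vec x a with hw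
  set wz := h.vec z a with hwz
  set b := polar Q w (ψ z) with hb
  -- one member `y` next to `x` with the same line
  obtain ⟨p, hp, hpC, hpP⟩ := exists_point h.nondeg (nondeg_pair h.norm_e (h.norm_ψ hx) (h.perp_ψ hx))
    (Submodule.span (ZMod 3) {w}) (by
      have := finrank_two (W := W) e (ψ x); have := finrank_one (W := W) w; have := h.dim; omega)
  obtain ⟨y, hy, hyp⟩ := h.model.surj p (hpC e (Submodule.subset_span (by simp))) hp
  have hxy : polar Q (ψ x) (ψ y) = 0 :=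
    (Pm.polar_iff (Pm.refl _) hyp).2 (hpC _ (Submodule.subset_span (by simp)))
  have hyw : polar Q (ψ y) w = 0 := (Pm.polar_iff hyp (Pm.refl _)).2 (by
    rw [QuadraticMap.polar_comm]; exact hpP w (Submodule.subset_span rfl))
  obtain ⟨hne, hc'⟩ := h.model.perp' hx hy hxy
  have hyx : y ∈ nb D x := ⟨hy.1, hne.symm, hc'⟩
  have hya : y ∈ nb D a := (h.mem_iff hx hax hnc hy hyx).2 hyw
  have hay : a ∈ nb D y := h.self_mem_nb_comm hax.1 hya
  obtain ⟨s, hs, es⟩ := h.vec_span hx hy hyx hax hay hnc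
  have eqn : ∀ (x' : G) (r : ZMod 3), x' ∈ nb D d → x' ∈ nb D a → a ∈ nb D x' → r ≠ 0 → h.vec x' a = r • w →
      ¬ Commute x' z → ∃ t : ZMod 3, t ≠ 0 ∧ wz - polar Q wz (ψ x') • ψ x' = t • (w - b • ψ z) := by
    intro x' r hx' hx'a hax' hr er hcx
    obtain ⟨t₁, ht₁, e₁⟩ := h.line_conj hx' hx'a hz haz hnc
    obtain ⟨t₂, ht₂, e₂⟩ := h.line_conj hz hza hx' hax' hnc
    rw [show z * x' * z = x' * z * x' from (braid h.grp.1 hx'.1 hz.1 hcx).symm, e₁, er, rfl3, rfl3,
      polar_smul_left', ← hb] at e₂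
    refine ⟨t₁ * t₂ * r, mul_ne_zero (mul_ne_zero ht₁ ht₂) hr, ?_⟩
    calc wz - polar Q wz (ψ x') • ψ x' = t₁ • (t₁ • (wz - polar Q wz (ψ x') • ψ x')) := by
          rw [smul_smul, sq_one t₁ ht₁, one_smul]
      _ = _ := by rw [e₂]; module
  obtain ⟨t, ht, et⟩ := eqn x 1 hx hxa hax one_ne_zero (one_smul _ _).symm hc
  have hb0 : b = 0 → ∃ t : ZMod 3, t ≠ 0 ∧ wz = t • w := fun hb0 => by
    rw [hb0, zero_smul, sub_zero] at et
    have := congrArg (polar Q (ψ x)) et
    rw [QuadraticMap.polar_sub_right, polar_smul_right', polar_smul_right', polar_self', h.norm_ψ hx, hxu,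
      QuadraticMap.polar_comm (⇑Q) (ψ x) wz, mul_zero] at this
    have hA : polar Q wz (ψ x) = 0 := self_aux _ this
    rw [hA, zero_smul, sub_zero] at et
    exact ⟨t, ht, et⟩
  by_cases hcy : Commute y z
  · by_cases hyz : z = y
    · exact ⟨s, hs, by rw [hwz, hyz, es]⟩
    · obtain ⟨s', hs', es'⟩ := h.vec_span hy hz ⟨hz.1, hyz, hcy⟩ hay haz hnc
      exact ⟨s' * s, mul_ne_zero hs' hs, by rw [hwz, es', es, smul_smul]⟩
  obtain ⟨t', ht', et'⟩ := eqn y s hy hya hay hs es hcy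
  by_cases hbz : b = 0
  · exact hb0 hbz
  exfalso
  set A := polar Q wz (ψ x) with hA
  set A' := polar Q wz (ψ y) with hA'
  -- the same multiple in both equations
  have e1 := congrArg (polar Q w) et
  have e2 := congrArg (polar Q w) et'
  simp only [QuadraticMap.polar_sub_right, polar_smul_right', polar_self', hu, ← hb,
    QuadraticMap.polar_comm (⇑Q) w (ψ x), hxu, QuadraticMap.polar_comm (⇑Q) w (ψ y), hyw] at e1 e2
  have htt : t = t' := same_aux t t' b hbz (by linear_combination e1 - e2)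
  subst htt
  have e3 : A • ψ x = A' • ψ y := by rw [← et'] at et; exact (sub_right_injective et)
  have e4 := congrArg (polar Q (ψ x)) e3
  rw [polar_smul_right', polar_smul_right', polar_self', h.norm_ψ hx, hxy, mul_one, mul_zero] at e4
  have hA0 : A = 0 := (mul_eq_zero.1 e4).resolve_right two_ne
  have e5 := congrArg (polar Q (ψ x)) et
  rw [hA0, zero_smul, sub_zero, polar_smul_right', QuadraticMap.polar_sub_right, polar_smul_right', hxu,
    QuadraticMap.polar_comm (⇑Q) (ψ x) wz, ← hA, hA0, zero_sub] at e5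
  exact (mul_ne_zero ht (neg_ne_zero.2 (mul_ne_zero hbz fun e0 => hc
    ((h.model.perp' hx hz e0).2)))) e5.symm

/-- `w` is the isotropic line of `a`. -/
structure IsLine (h : Sect D Q d e ψ) (a : G) (w : W) : Prop where
  far : ¬ Commute d a
  iso : Q w = 0
  perp : polar Q e w = 0
  ne : w ≠ 0
  mem : ∀ y ∈ nb D d, (y ∈ nb D a ↔ polar Q (ψ y) w = 0)
  vec : ∀ y ∈ nb D d, y ∈ nb D a → ∃ t : ZMod 3, t ≠ 0 ∧ h.vec y a = t • w

/-- The members commuting with `d` and `a` are all the ones orthogonal to the line of `a`. -/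
def Full (h : Sect D Q d e ψ) : Prop :=
  ∀ a x : G, x ∈ nb D d → a ∈ nb D x → ¬ Commute d a → ∀ y ∈ nb D d, polar Q (ψ y) (h.vec x a) = 0 → y ∈ nb D a

theorem exists_line [Finite G] (hf : h.Full) {a : G} (ha : h.Far a) : ∃ w, IsLine h a w := by
  obtain ⟨haD, hnc, x, hx, hxa⟩ := ha
  have hax : a ∈ nb D x := ⟨haD, Ne.symm hxa.2.1, hxa.2.2.symm⟩
  obtain ⟨hu, heu, hu0, -⟩ := h.vec_spec hx hax hnc
  have all : ∀ z ∈ nb D d, z ∈ nb D a → ∃ t : ZMod 3, t ≠ 0 ∧ h.vec z a = t • h.vec x a := fun z hz hza =>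
    h.line_agree hx hax hz (h.self_mem_nb_comm haD hza) hnc
  refine ⟨h.vec x a, hnc, hu, heu, hu0, fun y hy => ⟨fun hya => ?_, fun hp => hf a x hx hax hnc y hy hp⟩, all⟩
  obtain ⟨t, ht, e1⟩ := all y hy hya
  have := (h.vec_spec hy (h.self_mem_nb_comm haD hya) hnc).2.2.2
  rw [e1, polar_smul_right', mul_eq_zero] at this
  exact this.resolve_left ht

/-- Enough common neighbours inside the complement of a line give fullness. -/
theorem full_of_link [Finite G] (link : ∀ u x z : W, Q u = 0 → polar Q e u = 0 → Q x = 1 → polar Q e x = 0 → polar Q x u = 0 →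
    Q z = 1 → polar Q e z = 0 → polar Q z u = 0 →
    ∃ y, Q y = 1 ∧ polar Q e y = 0 ∧ polar Q x y = 0 ∧ polar Q z y = 0 ∧ polar Q y u = 0) : h.Full := by
  intro a x hx hax hnc z hz hp
  obtain ⟨hu, heu, -, hxu⟩ := h.vec_spec hx hax hnc
  obtain ⟨y, hy1, hye, hyx, hyz, hyu⟩ := link (h.vec x a) (ψ x) (ψ z) hu heu (h.norm_ψ hx) (h.perp_ψ hx) hxu
    (h.norm_ψ hz) (h.perp_ψ hz) hp
  obtain ⟨m, hm, hmy⟩ := h.model.surj y hye hy1
  obtain ⟨n1, c1⟩ := h.model.perp' hx hm ((Pm.polar_iff (Pm.refl _) hmy).2 hyx)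
  obtain ⟨n2, c2⟩ := h.model.perp' hz hm ((Pm.polar_iff (Pm.refl _) hmy).2 hyz)
  have hma : m ∈ nb D a :=
    (h.mem_iff hx hax hnc hm ⟨hm.1, n1.symm, c1⟩).2 ((Pm.polar_iff hmy (Pm.refl _)).2 hyu)
  have ham : a ∈ nb D m := h.self_mem_nb_comm hax.1 hma
  obtain ⟨t, -, e1⟩ := h.line_agree hx hax hm ham hnc
  exact (h.mem_iff hm ham hnc hz ⟨hz.1, n2, c2.symm⟩).2 (by rw [e1, polar_smul_right', hp, mul_zero])

end Sect

end CfsgLib.ThreeTrans.Refl3
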