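import Mathlib

/-!
The vectors of norm one of a diagonal form over the field with three elements are obtained from a
frame and a few short vectors by the reflections (owner: helper6).
-/

set_option autoImplicit false

namespace CfsgLib.ThreeTrans.Refl3

variable {M : ℕ}

/-- The diagonal form with weights `a`; the reflection in a vector `x` of norm one is `y ↦ y + dot a y x • x`. -/
def dot (a x y : Fin M → ZMod 3) : ZMod 3 := ∑ i, a i * x i * y i

/-- The image of `y` under the reflection in the vector `x` of norm one. -/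
def rmap (a x y : Fin M → ZMod 3) : Fin M → ZMod 3 := y + dot a y x • x

theorem sign_cases : ∀ t : ZMod 3, t ≠ 0 → t = 1 ∨ t = -1 := by decide

theorem sq_one : ∀ t : ZMod 3, t ≠ 0 → t * t = 1 := by decide

theorem add_twice : ∀ s t : ZMod 3, t + (s + (1 + 1) * s) = t := by decide

theorem dot_comm (a x y : Fin M → ZMod 3) : dot a x y = dot a y x :=
  Finset.sum_congr rfl fun _ _ => by ring

theorem dot_add_left (a x x' y : Fin M → ZMod 3) : dot a (x + x') y = dot a x y + dot a x' y := by
  simp [dot, ← Finset.sum_add_distrib, mul_add, add_mul]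

theorem dot_smul_left (a x y : Fin M → ZMod 3) (t : ZMod 3) : dot a (t • x) y = t * dot a x y := by
  rw [dot, dot, Finset.mul_sum]
  exact Finset.sum_congr rfl fun _ _ => by simp; ring

theorem dot_single_left (a y : Fin M → ZMod 3) (i : Fin M) (t : ZMod 3) :
    dot a (Pi.single i t) y = a i * t * y i := by
  classical
  rw [dot, Finset.sum_eq_single i]
  · simp
  · intro b _ hb; simp [hb]
  · simp

theorem dot_single_right (a y : Fin M → ZMod 3) (i : Fin M) (t : ZMod 3) :
    dot a y (Pi.single i t) = a i * t * y i := by rw [dot_comm, dot_single_left]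

theorem rmap_single {a : Fin M → ZMod 3} {i : Fin M} (hi : a i = 1) (y : Fin M → ZMod 3) :
    rmap a (Pi.single i 1) y = Function.update y i (-y i) := by
  classical
  funext j
  rcases eq_or_ne j i with rfl | h
  · simp [rmap, dot_single_right, hi]
    generalize y j = t
    revert t; decide
  · simp [rmap, h]

/-- A set of vectors closed under the reflections in its members and under negation. -/
structure Closed (a : Fin M → ZMod 3) (P : (Fin M → ZMod 3) → Prop) : Prop where
  neg : ∀ v, P v → P (-v)
  refl : ∀ x y, P x → P y → dot a x x = 1 → dot a y y = 1 → P (rmap a x y)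

/-- Same support. -/
def SameSupp (v w : Fin M → ZMod 3) : Prop := ∀ i, v i = 0 ↔ w i = 0

theorem SameSupp.dot_self {v w : Fin M → ZMod 3} (h : SameSupp v w) (a : Fin M → ZMod 3) :
    dot a v v = dot a w w := by
  refine Finset.sum_congr rfl fun i _ => ?_
  by_cases hv : v i = 0
  · simp [hv, (h i).1 hv]
  · have hw : w i ≠ 0 := fun e => hv ((h i).2 e)
    rw [mul_assoc, mul_assoc, sq_one _ hv, sq_one _ hw]

variable {a : Fin M → ZMod 3} {P : (Fin M → ZMod 3) → Prop}

/-- The weights: at most one index does not have weight one. -/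
def Weights (a : Fin M → ZMod 3) : Prop :=
  (∀ i, a i = 1 ∨ a i = -1) ∧ ∀ i j, a i = -1 → a j = -1 → i = j

section Signs

variable (hP : Closed a P) (hs : ∀ i, a i = 1 → P (Pi.single i 1))
include hP hs

theorem flip {v : Fin M → ZMod 3} {i : Fin M} (hi : a i = 1) (hv : P v) (hn : dot a v v = 1) :
    P (Function.update v i (-v i)) := by
  rw [← rmap_single hi]
  exact hP.refl _ _ (hs i hi) hv (by rw [dot_single_left]; simp [hi]) hn

theorem of_agree_off : ∀ (s : Finset (Fin M)) {v w : Fin M → ZMod 3}, P v → dot a v v = 1 →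
    (∀ i ∈ s, a i = 1) → SameSupp v w → (∀ i, i ∉ s → v i = w i) → P w := by
  classical
  intro s
  induction s using Finset.induction with
  | empty => intro v w hv _ _ _ h; rwa [show w = v from funext fun i => (h i (by simp)).symm]
  | @insert i s his ih =>
    intro v w hv hn hs1 hsupp h
    by_cases he : v i = w i
    · exact ih hv hn (fun j hj => hs1 j (by simp [hj])) hsupp fun j hj => by
        rcases eq_or_ne j i with rfl | hne
        · exact he
        · exact h j (by simp [hne, hj])
    · set v' := Function.update v i (-v i) with hv'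
      have hs' : SameSupp v v' := fun j => by
        rcases eq_or_ne j i with rfl | hne <;> simp [hv', *]
      refine ih (flip hP hs (hs1 i (by simp)) hv hn) ((hs'.dot_self a).symm.trans hn)
        (fun j hj => hs1 j (by simp [hj])) (fun j => (hs' j).symm.trans (hsupp j)) fun j hj => ?_
      rcases eq_or_ne j i with rfl | hne
      · simp only [Function.update_self]
        revert he
        have h0 := hsupp j
        revert h0
        generalize v j = x; generalize w j = y
        revert x y; decide
      · simp only [hv', Function.update_of_ne hne]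
        exact h j (by simp [hne, hj])

theorem of_sameSupp (hw : Weights a) {v w : Fin M → ZMod 3} (h : SameSupp v w) (hv : P v)
    (hn : dot a v v = 1) : P w := by
  classical
  by_cases hj : ∃ j, a j = -1 ∧ v j ≠ w j
  · obtain ⟨j, hj, hne⟩ := hj
    have hsupp : SameSupp (-v) w := fun i => by rw [Pi.neg_apply, neg_eq_zero]; exact h i
    refine of_agree_off hP hs (Finset.univ.filter fun i => (-v) i ≠ w i) (hP.neg _ hv)
      (by rw [hsupp.dot_self a, ← h.dot_self a, hn]) (fun i hi => ?_) hsupp (fun i hi => by simpa using hi)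
    refine (hw.1 i).resolve_right fun e => ?_
    obtain rfl := hw.2 i j e hj
    simp only [Finset.mem_filter, Finset.mem_univ, true_and, Pi.neg_apply] at hi
    have h0 := h i
    revert h0 hne hi
    generalize v i = x; generalize w i = y
    revert x y; decide
  · push Not at hj
    exact of_agree_off hP hs (Finset.univ.filter fun i => v i ≠ w i) hv hn (fun i hi =>
      (hw.1 i).resolve_right fun e => by simp [hj i e] at hi) h (fun i hi => by simpa using hi)

end Signs

/-- The indicator vector of a set of indices. -/
def ind (T : Finset (Fin M)) : Fin M → ZMod 3 := fun i => if i ∈ T then 1 else 0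

theorem ind_apply (T : Finset (Fin M)) (i : Fin M) : ind T i = if i ∈ T then 1 else 0 := rfl

theorem dot_ind (a x : Fin M → ZMod 3) (T : Finset (Fin M)) :
    dot a x (ind T) = ∑ i ∈ T, a i * x i := by
  classical
  simp [dot, ind]

theorem norm_ind {T : Finset (Fin M)} (h : ∀ i ∈ T, a i = 1) : dot a (ind T) (ind T) = T.card := by
  classical
  rw [dot_ind, Finset.sum_congr rfl (g := fun _ => (1 : ZMod 3)) fun i hi => by simp [ind, hi, h i hi]]
  simp

theorem norm_quad {T : Finset (Fin M)} (h : ∀ i ∈ T, a i = 1) (hc : T.card = 4) :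
    dot a (ind T) (ind T) = 1 := by rw [norm_ind h, hc]; decide

theorem norm_triple {i l j : Fin M} (hi : a i = 1) (hl : a l = 1) (hj : a j = -1) (hil : i ≠ l) :
    dot a (ind {i, l, j}) (ind {i, l, j}) = 1 := by
  have hij : i ≠ j := fun e => by rw [e, hj] at hi; exact absurd hi (by decide)
  have hlj : l ≠ j := fun e => by rw [e, hj] at hl; exact absurd hl (by decide)
  rw [dot_ind]
  simp [ind, hi, hl, hj, hil, hij, hlj]

/-- The generating vectors: a frame, the quadruples through three fixed indices and, when one weight is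
`-1`, the triples through the first index and that one. -/
structure Seeded (a : Fin M → ZMod 3) (P : (Fin M → ZMod 3) → Prop) (i₀ i₁ i₂ : Fin M) : Prop where
  weights : Weights a
  one₀ : a i₀ = 1
  one₁ : a i₁ = 1
  one₂ : a i₂ = 1
  ne₀₁ : i₀ ≠ i₁
  ne₀₂ : i₀ ≠ i₂
  ne₁₂ : i₁ ≠ i₂
  single : ∀ i, a i = 1 → P (Pi.single i 1)
  quad : ∀ l, a l = 1 → l ∉ ({i₀, i₁, i₂} : Finset (Fin M)) → P (ind {i₀, i₁, i₂, l})
  triple : ∀ l j, a l = 1 → l ≠ i₀ → a j = -1 → P (ind {i₀, l, j})

section Reach

variable (hP : Closed a P) {i₀ i₁ i₂ : Fin M} (hS : Seeded a P i₀ i₁ i₂)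
include hP hS

/-- Two quadruples with three common indices give a third one. -/
theorem quad_step {A B : Finset (Fin M)} {k p q : Fin M} {C : Finset (Fin M)} (hA : A = insert p (insert k C))
    (hB : B = insert q (insert k C)) (hC : C.card = 2) (hk : k ∉ C) (hp : p ∉ C) (hq : q ∉ C)
    (hpk : p ≠ k) (hqk : q ≠ k) (hpq : p ≠ q) (h1 : ∀ i ∈ insert q (insert p (insert k C)), a i = 1)
    (hPA : P (ind A)) (hPB : P (ind B)) : P (ind (insert q (insert p C))) := by
  classical
  subst hA hB
  have hA1 : ∀ i ∈ insert p (insert k C), a i = 1 := fun i hi => h1 i (by aesop)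
  have hB1 : ∀ i ∈ insert q (insert k C), a i = 1 := fun i hi => h1 i (by aesop)
  have hAc : (insert p (insert k C)).card = 4 := by
    rw [Finset.card_insert_of_notMem (by simp [hp, hpk]), Finset.card_insert_of_notMem hk, hC]
  have hBc : (insert q (insert k C)).card = 4 := by
    rw [Finset.card_insert_of_notMem (by simp [hq, hqk]), Finset.card_insert_of_notMem hk, hC]
  set x : Fin M → ZMod 3 := Function.update (ind (insert q (insert k C))) k (-1) with hx
  have hsx : SameSupp (ind (insert q (insert k C))) x := fun i => by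
    rcases eq_or_ne i k with rfl | h <;> simp [hx, ind, *]
  have hxn : dot a x x = 1 := by rw [← hsx.dot_self, norm_quad hB1 hBc]
  have hPx : P x := of_sameSupp hP hS.single hS.weights hsx hPB (norm_quad hB1 hBc)
  have hdot : dot a (ind (insert p (insert k C))) x = 1 := by
    rw [dot_comm, dot_ind, Finset.sum_insert (by simp [hp, hpk]), Finset.sum_insert hk,
      Finset.sum_congr rfl (g := fun _ => (1 : ZMod 3)) fun i hi => by
        have hik : i ≠ k := fun e => hk (e ▸ hi)
        rw [h1 i (by simp [hi])]
        simp [hx, ind, hik, hi]]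
    simp [hC, hx, ind, hpk, h1 k (by simp), hp, hpq]
    decide
  have hr := hP.refl _ _ hPx hPA hxn (norm_quad hA1 hAc)
  refine of_sameSupp hP hS.single hS.weights ?_ hr ?_
  · intro i
    rw [rmap, hdot, one_smul]
    simp only [Pi.add_apply, hx, ind_apply, Finset.mem_insert]
    rcases eq_or_ne i k with rfl | hik
    · simp [hk, hpk.symm, hqk.symm]
    · rw [Function.update_of_ne hik, ind_apply]
      simp only [Finset.mem_insert]
      by_cases hiC : i ∈ C
      · simp [hiC, hik, one_add_one_eq_two, show (2 : ZMod 3) ≠ 0 by decide]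
      · rcases eq_or_ne i p with rfl | hip
        · simp [hik, hiC, hpq]
        · rcases eq_or_ne i q with rfl | hiq <;> simp [hik, hip, hiC, *]
  · simp only [rmap, hdot, one_smul, dot_add_left]
    rw [dot_comm a _ (ind _ + x), dot_comm a _ (ind _ + x), dot_add_left, dot_add_left, hxn,
      norm_quad hA1 hAc, dot_comm a x, hdot]
    decide

theorem quad_all : ∀ (T : Finset (Fin M)), T.card = 4 → (∀ i ∈ T, a i = 1) → P (ind T) := by
  classical
  intro T
  induction h : (T \ {i₀, i₁, i₂}).card using Nat.strong_induction_on generalizing T with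
  | _ r ih =>
  intro hc h1
  subst h
  set B : Finset (Fin M) := {i₀, i₁, i₂} with hB
  have hBc : B.card = 3 := by simp [hB, hS.ne₀₁, hS.ne₀₂, hS.ne₁₂]
  have hB1 : ∀ i ∈ B, a i = 1 := by simp [hB, hS.one₀, hS.one₁, hS.one₂]
  have hsum := Finset.card_sdiff_add_card_inter T B
  have hle : (T ∩ B).card ≤ 3 := hBc ▸ Finset.card_le_card Finset.inter_subset_right
  rcases Nat.lt_or_ge (T \ B).card 2 with hr | hr
  · obtain ⟨l, hl⟩ := Finset.card_eq_one.1 (show (T \ B).card = 1 by omega)
    have hlT : l ∈ T ∧ l ∉ B := by rw [← Finset.mem_sdiff, hl]; simp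
    have hTB : T ∩ B = B := Finset.eq_of_subset_of_card_le Finset.inter_subset_right (by omega)
    have hT : T = {i₀, i₁, i₂, l} := by
      rw [← Finset.sdiff_union_inter T B, hl, hTB, hB]
      ext x; simp; tauto
    rw [hT]
    exact hS.quad l (h1 l hlT.1) hlT.2
  obtain ⟨p, hp, q, hq, hpq⟩ := Finset.one_lt_card.1 hr
  rw [Finset.mem_sdiff] at hp hq
  obtain ⟨k, hk⟩ : (B \ T).Nonempty := by
    rw [← Finset.card_pos]
    have := Finset.card_sdiff_add_card_inter B T
    rw [Finset.inter_comm] at this
    omega
  rw [Finset.mem_sdiff] at hk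
  set C := (T.erase p).erase q with hC
  have hCc : C.card = 2 := by
    rw [hC, Finset.card_erase_of_mem (by simp [hq.1, hpq.symm]), Finset.card_erase_of_mem hp.1]; omega
  have hkC : k ∉ C := fun e => hk.2 (Finset.mem_of_mem_erase (Finset.mem_of_mem_erase e))
  have hpk : p ≠ k := fun e => hk.2 (e ▸ hp.1)
  have hqk : q ≠ k := fun e => hk.2 (e ▸ hq.1)
  have hT : T = insert q (insert p C) := by
    ext x; simp [hC]; by_cases x = p <;> by_cases x = q <;> simp_all
  have hall : ∀ i ∈ insert q (insert p (insert k C)), a i = 1 := by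
    intro i hi
    simp only [Finset.mem_insert] at hi
    rcases hi with rfl | rfl | rfl | hi
    · exact h1 _ hq.1
    · exact h1 _ hp.1
    · exact hB1 _ hk.1
    · exact h1 _ (Finset.mem_of_mem_erase (Finset.mem_of_mem_erase hi))
  have smaller : ∀ {x y : Fin M}, x ∈ T → x ∉ B → y ∈ T → y ≠ x → (T.erase x) \ B ⊂ T \ B := by
    intro x y hx hxB _ _
    rw [Finset.ssubset_iff_of_subset (Finset.sdiff_subset_sdiff (Finset.erase_subset _ _) subset_rfl)]
    exact ⟨x, by simp [hx, hxB], by simp⟩
  have get : ∀ {x : Fin M}, x ∈ T → x ∉ B → P (ind (insert k (T.erase x))) := by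
    intro x hx hxB
    refine ih _ ?_ _ rfl ?_ ?_
    · rw [Finset.insert_sdiff_of_mem _ hk.1]
      exact Finset.card_lt_card (smaller hx hxB hp.1 |> fun f => by
        rcases eq_or_ne p x with rfl | hne
        · exact smaller hx hxB hq.1 hpq.symm
        · exact f hne)
    · rw [Finset.card_insert_of_notMem (fun e => hk.2 (Finset.mem_of_mem_erase e)),
        Finset.card_erase_of_mem hx, hc]
    · intro i hi
      rcases Finset.mem_insert.1 hi with rfl | hi
      · exact hB1 _ hk.1
      · exact h1 _ (Finset.mem_of_mem_erase hi)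
  have hmem : ∀ x, x ∈ C ↔ x ≠ q ∧ x ≠ p ∧ x ∈ T := fun x => by
    rw [hC]; simp only [Finset.mem_erase]
  suffices P (ind (insert q (insert p C))) by rwa [hT]
  refine quad_step hP hS (A := insert k (T.erase q)) (B := insert k (T.erase p)) ?_ ?_ hCc hkC
    (by simp [hmem]) (by simp [hmem]) hpk hqk hpq hall (get hq.1 hq.2) (get hp.1 hp.2)
  · ext x; simp only [Finset.mem_insert, Finset.mem_erase, hmem]; grind
  · ext x; simp only [Finset.mem_insert, Finset.mem_erase, hmem]; grind

theorem triple_all {i l j : Fin M} (hi : a i = 1) (hl : a l = 1) (hj : a j = -1) (hil : i ≠ l) :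
    P (ind {i, l, j}) := by
  classical
  by_cases e₀ : i = i₀
  · subst e₀; exact hS.triple l j hl hil.symm hj
  by_cases e₁ : l = i₀
  · subst e₁
    rw [show ({i, l, j} : Finset (Fin M)) = {l, i, j} by ext; simp; tauto]
    exact hS.triple i j hi hil hj
  have h0j : i₀ ≠ j := fun e => by rw [← e, hS.one₀] at hj; exact absurd hj (by decide)
  have hij : i ≠ j := fun e => by rw [← e, hi] at hj; exact absurd hj (by decide)
  have hlj : l ≠ j := fun e => by rw [← e, hl] at hj; exact absurd hj (by decide)
  have hA := hS.triple i j hi e₀ hj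
  have hAn := norm_triple (a := a) hS.one₀ hi hj (Ne.symm e₀)
  have hBn := norm_triple (a := a) hS.one₀ hl hj (Ne.symm e₁)
  set x : Fin M → ZMod 3 := Function.update (ind {i₀, l, j}) j (-1) with hx
  have hsx : SameSupp (ind {i₀, l, j}) x := fun t => by
    rcases eq_or_ne t j with rfl | h <;> simp [hx, ind, *]
  have hPx : P x := of_sameSupp hP hS.single hS.weights hsx (hS.triple l j hl e₁ hj) hBn
  have hxn : dot a x x = 1 := by rw [← hsx.dot_self, hBn]
  have hdot : dot a (ind {i₀, i, j}) x = -1 := by
    rw [dot_comm, dot_ind]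
    simp [hx, ind, hS.one₀, hi, hj, e₀, Ne.symm e₀, h0j, hij, hlj, hil]
    decide
  refine of_sameSupp hP hS.single hS.weights ?_ (hP.refl _ _ hPx hA hxn hAn) ?_
  · intro t
    rw [rmap, hdot]
    simp only [Pi.add_apply, Pi.smul_apply, hx, ind_apply, smul_eq_mul, Finset.mem_insert,
      Finset.mem_singleton]
    rcases eq_or_ne t j with rfl | htj
    · simp [h0j.symm, hij.symm, hlj.symm]; decide
    · rw [Function.update_of_ne htj, ind_apply]
      simp only [Finset.mem_insert, Finset.mem_singleton]
      rcases eq_or_ne t i₀ with rfl | ht0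
      · simp [htj, Ne.symm e₀, Ne.symm e₁]
      · rcases eq_or_ne t i with rfl | hti
        · simp [htj, hil, e₀]
        · rcases eq_or_ne t l with rfl | htl <;> simp [htj, ht0, hti, *]
  · simp only [rmap, dot_add_left, dot_smul_left]
    rw [dot_comm a _ (ind _ + _), dot_comm a _ (ind _ + _), dot_add_left, dot_add_left, dot_smul_left,
      dot_smul_left, hxn, hAn, dot_comm a x, hdot]
    decide

/-- Every vector of norm one is reached. -/
theorem reach : ∀ v : Fin M → ZMod 3, dot a v v = 1 → P v := by
  classical
  intro v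
  induction h : (Finset.univ.filter fun i => v i ≠ 0).card using Nat.strong_induction_on generalizing v with
  | _ r ih =>
  intro hn
  subst h
  set S := Finset.univ.filter fun i => v i ≠ 0 with hSdef
  set T := S.filter fun i => a i = 1 with hT
  have hmemS : ∀ i, i ∈ S ↔ v i ≠ 0 := by simp [hSdef]
  rcases Nat.lt_or_ge T.card 5 with hsmall | hbig
  · have hsupp : SameSupp (ind S) v := fun i => by simp [ind, hmemS]
    have hnS : dot a (ind S) (ind S) = 1 := by rw [hsupp.dot_self, hn]
    refine of_sameSupp hP hS.single hS.weights hsupp ?_ hnS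
    by_cases hj : ∃ j ∈ S, a j = -1
    · obtain ⟨j, hjS, hj⟩ := hj
      have hST : S = insert j T := by
        ext i
        simp only [Finset.mem_insert, hT, Finset.mem_filter]
        refine ⟨fun hi => (hS.weights.1 i).elim (fun e => Or.inr ⟨hi, e⟩)
          (fun e => Or.inl (hS.weights.2 i j e hj)), ?_⟩
        rintro (rfl | hi)
        exacts [hjS, hi.1]
      have hjT : j ∉ T := fun e => by
        have h1 := (Finset.mem_filter.1 e).2
        rw [hj] at h1; exact absurd h1 (by decide)
      have hcount : (T.card : ZMod 3) = 2 := by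
        rw [hST, dot_ind, Finset.sum_insert hjT, Finset.sum_congr rfl (g := fun _ => (1 : ZMod 3))
          fun i hi => by simp [ind, hi, (Finset.mem_filter.1 hi).2]] at hnS
        simp [ind, hj] at hnS
        linear_combination hnS
      have hc2 : T.card = 2 := by
        revert hcount
        interval_cases T.card <;> decide
      obtain ⟨i, l, hil, e⟩ := Finset.card_eq_two.1 hc2
      have hi : a i = 1 := (Finset.mem_filter.1 (show i ∈ T by simp [e])).2
      have hl : a l = 1 := (Finset.mem_filter.1 (show l ∈ T by simp [e])).2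
      rw [hST, e, show insert j ({i, l} : Finset (Fin M)) = {i, l, j} by ext; simp; tauto]
      exact triple_all hP hS hi hl hj hil
    · push Not at hj
      have hST : T = S := Finset.filter_true_of_mem fun i hi => (hS.weights.1 i).resolve_right (hj i hi)
      have hall : ∀ i ∈ S, a i = 1 := fun i hi => (hS.weights.1 i).resolve_right (hj i hi)
      rw [norm_ind hall] at hnS
      rw [hST] at hsmall
      have : S.card = 1 ∨ S.card = 4 := by
        revert hnS
        interval_cases S.card <;> decide
      rcases this with h1 | h4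
      · obtain ⟨i, e⟩ := Finset.card_eq_one.1 h1
        rw [e, show ind {i} = Pi.single i 1 from funext fun t => by simp [ind, Pi.single_apply]]
        exact hS.single i (hall i (by simp [e]))
      · exact quad_all hP hS S h4 hall
  -- shorten
  obtain ⟨U, hUT, hU⟩ := Finset.exists_subset_card_eq (show 4 ≤ T.card by omega)
  obtain ⟨k, hk⟩ := Finset.card_pos.1 (show 0 < U.card by omega)
  have hU1 : ∀ i ∈ U, a i = 1 := fun i hi => (Finset.mem_filter.1 (hUT hi)).2
  have hUv : ∀ i ∈ U, v i ≠ 0 := fun i hi => (hmemS i).1 (Finset.mem_filter.1 (hUT hi)).1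
  set x : Fin M → ZMod 3 := fun i => if i ∈ U then (if i = k then v i else -v i) else 0 with hx
  have hsx : SameSupp (ind U) x := fun i => by
    by_cases hi : i ∈ U
    · have := hUv i hi
      by_cases i = k <;> simp_all [ind]
    · simp [hx, ind, hi]
  have hPx : P x := of_sameSupp hP hS.single hS.weights hsx (quad_all hP hS U hU hU1) (norm_quad hU1 hU)
  have hxn : dot a x x = 1 := by rw [← hsx.dot_self, norm_quad hU1 hU]
  have hdot : dot a v x = 1 := by
    have e : ∀ i ∈ U.erase k, a i * v i * x i = -1 := fun i hi => by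
      obtain ⟨hik, hiU⟩ := Finset.mem_erase.1 hi
      simp [hx, hiU, hik, hU1 i hiU, sq_one _ (hUv i hiU)]
    rw [dot, ← Finset.sum_subset (Finset.subset_univ U) (fun i _ hi => by simp [hx, hi]),
      ← Finset.add_sum_erase _ _ hk, Finset.sum_congr rfl e]
    simp [Finset.card_erase_of_mem hk, hU, hx, hk, hU1 k hk, sq_one _ (hUv k hk)]
    decide
  set r := rmap a x v with hr
  have hrv : r = v + x := by rw [hr, rmap, hdot, one_smul]
  have hrn : dot a r r = 1 := by
    rw [hrv, dot_add_left, dot_comm a v (v + x), dot_comm a x (v + x), dot_add_left, dot_add_left, hn,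
      hxn, dot_comm a x v, hdot]
    decide
  have hPr : P r := by
    refine ih _ ?_ r rfl hrn
    refine Finset.card_lt_card ((Finset.ssubset_iff_of_subset fun i hi => ?_).2 ?_)
    · simp only [Finset.mem_filter, Finset.mem_univ, true_and, hrv, Pi.add_apply] at hi
      rw [hmemS]
      intro h0
      apply hi
      by_cases hiU : i ∈ U
      · exact absurd h0 (hUv i hiU)
      · simp [h0, hx, hiU]
    · obtain ⟨i, hiU, hik⟩ := Finset.exists_mem_ne (show 1 < U.card by omega) k
      exact ⟨i, (hmemS i).2 (hUv i hiU), by simp [hrv, hx, hiU, hik]⟩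
  have hback : rmap a x r = v := by
    rw [hrv, rmap, dot_add_left, hdot, hxn, add_assoc]
    funext i
    simp only [Pi.add_apply, Pi.smul_apply, smul_eq_mul]
    exact add_twice _ _
  rw [← hback]
  exact hP.refl _ _ hPx hPr hxn hrn

end Reach

end CfsgLib.ThreeTrans.Refl3
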