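import Cfsg.Agent.Lib.ThreeTrans.Refl3.Chart
import Cfsg.Agent.Lib.ThreeTrans.Refl3.Small.Quad6

/-!
Signs on the pairs `{a, d a d}` compatible with commuting (owner: helper6).
-/

set_option autoImplicit false

namespace CfsgLib.ThreeTrans.Refl3

open Cfsg CfsgLib.Classical.Quad
open QuadraticMap (polar polarBilin)

universe u v

theorem tri_aux : ∀ p₁ p₂ p₃ s t k : ZMod 3, p₁ ≠ 0 → p₂ ≠ 0 → p₃ ≠ 0 →
    t * p₁ + k * p₃ = 0 → s * p₁ + k * p₂ = 0 → s * p₃ + t * p₂ = 0 → s = 0 ∧ t = 0 ∧ k = 0 := by decide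

/-- A sign function on edges with trivial triangles is a coboundary, given enough common neighbours. -/
theorem exists_potential {A : Type*} (R : A → A → Prop) (hsymm : ∀ a b, R a b → R b a) (q : A → A → ZMod 3)
    (hq : ∀ a b, R a b → q a b ≠ 0) (hqs : ∀ a b, q a b = q b a)
    (htri : ∀ a b c, R a b → R b c → R a c → q a b * q b c * q a c = 1) (a₀ : A)
    (hcommon : ∀ a, ∃ c, R a₀ c ∧ R c a)
    (hquad : ∀ a c c', ¬ R a₀ a → R a₀ c → R c a → R a₀ c' → R c' a → ¬ R c c' →
      ∃ z, R a₀ z ∧ R z a ∧ R z c ∧ R z c')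
    (htri3 : ∀ a b, ¬ R a₀ a → ¬ R a₀ b → R a b → ∃ c, R a₀ c ∧ R c a ∧ R c b) :
    ∃ τ : A → ZMod 3, (∀ a, τ a ≠ 0) ∧ ∀ a b, R a b → q a b = τ a * τ b := by
  classical
  choose c hc using hcommon
  let τ : A → ZMod 3 := fun a => if R a₀ a then q a₀ a else q a₀ (c a) * q (c a) a
  have h1 : ∀ a c', ¬ R a₀ a → R a₀ c' → R c' a → τ a = q a₀ c' * q c' a := by
    intro a c' hna h0c' hc'a
    simp only [τ, if_neg hna]
    have via : ∀ x y, R a₀ x → R x a → R a₀ y → R y a → R x y → q a₀ x * q x a = q a₀ y * q y a := by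
      intro x y h1 h2 h3 h4 h5
      have t1 := htri a₀ x y h1 h5 h3
      have t2 := htri x y a h5 h4 h2
      have := hq _ _ h5; have := hq _ _ h1; have := hq _ _ h2; have := hq _ _ h3; have := hq _ _ h4
      revert t1 t2
      generalize q a₀ x = r₁ at *; generalize q x a = r₂ at *; generalize q a₀ y = r₃ at *
      generalize q y a = r₄ at *; generalize q x y = r₅ at *
      revert r₁ r₂ r₃ r₄ r₅
      exact via_aux
    by_cases hR : R (c a) c'
    · exact via _ _ (hc a).1 (hc a).2 h0c' hc'a hR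
    · obtain ⟨z, hz0, hza, hzc, hzc'⟩ := hquad a (c a) c' hna (hc a).1 (hc a).2 h0c' hc'a hR
      exact (via z _ hz0 hza (hc a).1 (hc a).2 hzc).symm.trans (via z _ hz0 hza h0c' hc'a hzc')
  have h0 : ∀ a, R a₀ a → τ a = q a₀ a := fun a ha => by simp only [τ, if_pos ha]
  refine ⟨τ, fun a => ?_, fun a b hab => ?_⟩
  · by_cases ha : R a₀ a
    · rw [h0 a ha]; exact hq _ _ ha
    · rw [h1 a _ ha (hc a).1 (hc a).2]
      have := hq _ _ (hc a).1; have := hq _ _ (hc a).2
      generalize q a₀ (c a) = r at *; generalize q (c a) a = s at *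
      revert r s; exact mul_ne
  by_cases ha : R a₀ a <;> by_cases hb : R a₀ b
  · rw [h0 a ha, h0 b hb]
    have t := htri a₀ a b ha hab hb
    have := hq _ _ ha; have := hq _ _ hb; have := hq _ _ hab
    generalize q a₀ a = r₁ at *; generalize q a₀ b = r₂ at *; generalize q a b = r₃ at *
    revert r₁ r₂ r₃; exact case1
  · rw [h0 a ha, h1 b a hb ha hab]
    have := hq _ _ ha; have := hq _ _ hab
    generalize q a₀ a = r₁ at *; generalize q a b = r₂ at *
    revert r₁ r₂; exact case2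
  · rw [h1 a b ha hb (hsymm _ _ hab), h0 b hb, hqs b a]
    have := hq _ _ hb; have := hq _ _ hab
    generalize q a₀ b = r₁ at *; generalize q a b = r₂ at *
    revert r₁ r₂; exact case3
  · obtain ⟨z, hz0, hza, hzb⟩ := htri3 a b ha hb hab
    rw [h1 a z ha hz0 hza, h1 b z hb hz0 hzb]
    have t := htri z a b hza hab hzb
    have := hq _ _ hz0; have := hq _ _ hza; have := hq _ _ hzb; have := hq _ _ hab
    generalize q a₀ z = r₁ at *; generalize q z a = r₂ at *; generalize q z b = r₃ at *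
    generalize q a b = r₄ at *
    revert r₁ r₂ r₃ r₄; exact case4
where
  via_aux : ∀ r₁, r₁ ≠ 0 → ∀ r₂, r₂ ≠ 0 → ∀ r₃, r₃ ≠ 0 → ∀ r₄, r₄ ≠ 0 → ∀ r₅ : ZMod 3, r₅ ≠ 0 →
      r₁ * r₅ * r₃ = 1 → r₅ * r₄ * r₂ = 1 → r₁ * r₂ = r₃ * r₄ := by decide
  mul_ne : ∀ r : ZMod 3, r ≠ 0 → ∀ s : ZMod 3, s ≠ 0 → r * s ≠ 0 := by decide
  case1 : ∀ r₁, r₁ ≠ 0 → ∀ r₂, r₂ ≠ 0 → ∀ r₃ : ZMod 3, r₃ ≠ 0 → r₁ * r₃ * r₂ = 1 → r₃ = r₁ * r₂ := by decide
  case2 : ∀ r₁, r₁ ≠ 0 → ∀ r₂ : ZMod 3, r₂ ≠ 0 → r₂ = r₁ * (r₁ * r₂) := by decide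
  case3 : ∀ r₁, r₁ ≠ 0 → ∀ r₂ : ZMod 3, r₂ ≠ 0 → r₂ = r₁ * r₂ * r₁ := by decide
  case4 : ∀ r₁, r₁ ≠ 0 → ∀ r₂, r₂ ≠ 0 → ∀ r₃, r₃ ≠ 0 → ∀ r₄ : ZMod 3, r₄ ≠ 0 → r₂ * r₄ * r₃ = 1 →
      r₄ = r₁ * r₂ * (r₁ * r₃) := by decide

variable [Fact (Nat.Prime 3)] {W : Type v} [AddCommGroup W] [Module (ZMod 3) W]
  [FiniteDimensional (ZMod 3) W] {Q : QuadraticForm (ZMod 3) W}

section Space

variable (hQ : (polarBilin Q).Nondegenerate) {e : W} (he : Q e = 1)
  (hdim : 6 ≤ Module.finrank (ZMod 3) W)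
include hQ he hdim

theorem exists_iso : ∃ u, u ≠ 0 ∧ Q u = 0 ∧ polar Q e u = 0 := by
  obtain ⟨p, hp, hpC, -⟩ := exists_point hQ (nondeg_single he) ⊥
    (by have := finrank_one (W := W) e; have : Module.finrank (ZMod 3) (⊥ : Submodule (ZMod 3) W) = 0 := finrank_bot _ _; omega)
  have hep := hpC e (Submodule.subset_span rfl)
  obtain ⟨q, hq, hqC, -⟩ := exists_point hQ (nondeg_pair he hp hep) ⊥
    (by have := finrank_two (W := W) e p; have : Module.finrank (ZMod 3) (⊥ : Submodule (ZMod 3) W) = 0 := finrank_bot _ _; omega)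
  have heq := hqC e (Submodule.subset_span (by simp))
  have hpq := hqC p (Submodule.subset_span (by simp))
  obtain ⟨s, hs, hsC, -⟩ := exists_point hQ (nondeg_triple he hp hq hep heq hpq) ⊥
    (by have := finrank_three (W := W) e p q; have : Module.finrank (ZMod 3) (⊥ : Submodule (ZMod 3) W) = 0 := finrank_bot _ _; omega)
  have hes := hsC e (Submodule.subset_span (by simp))
  have hps := hsC p (Submodule.subset_span (by simp))
  have hqs := hsC q (Submodule.subset_span (by simp))
  refine ⟨p + q + s, fun h0 => ?_, ?_, by rw [polar_add_right', polar_add_right', hep, heq, hes]; ring⟩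
  · have := congrArg (polar Q p) h0
    rw [polar_add_right', polar_add_right', polar_self', hp, hpq, hps, QuadraticMap.polar_zero_right, mul_one,
      add_zero, add_zero] at this
    exact two_ne this
  · rw [apply_add, apply_add, hp, hq, hs, hpq, polar_add_left', hps, hqs]
    exact three''
where
  three'' : (1 : ZMod 3) + 1 + 0 + 1 + (0 + 0) = 0 := by
    rw [add_zero, add_zero, add_zero, one_add_one_eq_two, add_comm]; exact three'

omit hdim in
theorem exists_partner {w : W} (hw : Q w = 0) (hwe : polar Q e w = 0) (hw0 : w ≠ 0) :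
    ∃ a, Q a = 0 ∧ polar Q e a = 0 ∧ polar Q w a = 1 := by
  obtain ⟨a, h1, h2, h3⟩ := exists_singular_partner hQ (U := Submodule.span (ZMod 3) {e}) hw
    (fun u hu => by obtain ⟨t, rfl⟩ := Submodule.mem_span_singleton.1 hu; rw [polar_smul_left', hwe, mul_zero])
    (fun hm => hw0 (by
      obtain ⟨t, rfl⟩ := Submodule.mem_span_singleton.1 hm
      rw [polar_smul_right', polar_self', he, mul_one, mul_eq_zero] at hwe
      rw [hwe.resolve_right two_ne, zero_smul]))
  exact ⟨a, h1, h3 e (Submodule.subset_span rfl), h2⟩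

omit hQ hdim in
theorem nondeg_hyp {a b : W} (ha : Q a = 0) (hb : Q b = 0) (hea : polar Q e a = 0) (heb : polar Q e b = 0)
    (hab : polar Q a b ≠ 0) : NonDeg Q (Submodule.span (ZMod 3) {e, a, b}) := by
  intro x hx h
  obtain ⟨s, t, r, rfl⟩ := Submodule.mem_span_triple.1 hx
  have h1 := h e (Submodule.subset_span (by simp))
  have h2 := h a (Submodule.subset_span (by simp))
  have h3 := h b (Submodule.subset_span (by simp))
  simp [polar_add_left', polar_smul_left', polar_self', he, ha, hb, hea, heb, hab,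
    QuadraticMap.polar_comm (⇑Q) a e, QuadraticMap.polar_comm (⇑Q) b e, QuadraticMap.polar_comm (⇑Q) b a,
    two_ne] at h1 h2 h3
  simp [h1, h2, h3]

/-- Two isotropic vectors have a common non-orthogonal one. -/
theorem exists_common {u w : W} (hu : Q u = 0) (hw : Q w = 0) (heu : polar Q e u = 0) (hew : polar Q e w = 0)
    (hu0 : u ≠ 0) (hw0 : w ≠ 0) :
    ∃ z, Q z = 0 ∧ polar Q e z = 0 ∧ polar Q z u ≠ 0 ∧ polar Q z w ≠ 0 := by
  by_cases hp : polar Q u w = 0
  · obtain ⟨a, ha, hea, hua⟩ := exists_partner hQ he hu heu hu0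
    by_cases hwa : polar Q w a = 0
    · obtain ⟨b, hb, heb, hwb⟩ := exists_partner hQ he hw hew hw0
      by_cases hub : polar Q u b = 0
      · -- `a + b` corrected by `u`
        set z := a + b - polar Q a b • u with hz
        refine ⟨z, ?_, ?_, ?_, ?_⟩
        · rw [hz, sub_eq_add_neg, ← neg_smul, apply_add, apply_add, apply_smul, ha, hb, hu, polar_smul_right',
            polar_add_left', QuadraticMap.polar_comm (⇑Q) a u, QuadraticMap.polar_comm (⇑Q) b u, hua, hub]
          ring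
        · rw [hz, QuadraticMap.polar_sub_right, polar_smul_right', polar_add_right', hea, heb, heu]; ring
        · rw [hz, QuadraticMap.polar_comm, QuadraticMap.polar_sub_right, polar_smul_right', polar_add_right',
            hua, hub, polar_self', hu]
          simp
        · rw [hz, QuadraticMap.polar_comm, QuadraticMap.polar_sub_right, polar_smul_right', polar_add_right',
            hwa, hwb, QuadraticMap.polar_comm (⇑Q) w u, hp]
          simp
      · exact ⟨b, hb, heb, by rwa [QuadraticMap.polar_comm], by rw [QuadraticMap.polar_comm, hwb]; exact one_ne_zero⟩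
    · exact ⟨a, ha, hea, by rw [QuadraticMap.polar_comm, hua]; exact one_ne_zero, by rwa [QuadraticMap.polar_comm]⟩
  · obtain ⟨r, hr, hrC, -⟩ := exists_norm_perp hQ (nondeg_hyp he hu hw heu hew hp) ⊥
      (by have := finrank_three (W := W) e u w; have : Module.finrank (ZMod 3) (⊥ : Submodule (ZMod 3) W) = 0 := finrank_bot _ _; omega)
      (δ := -polar Q u w) (neg_ne_zero.2 hp)
    have hur := hrC u (Submodule.subset_span (by simp))
    have hwr := hrC w (Submodule.subset_span (by simp))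
    have her := hrC e (Submodule.subset_span (by simp))
    refine ⟨u + w + r, ?_, ?_, ?_, ?_⟩
    · rw [apply_add, apply_add, hu, hw, hr, polar_add_left', hur, hwr]; ring
    · rw [polar_add_right', polar_add_right', heu, hew, her]; ring
    · rw [polar_add_left', polar_add_left', polar_self', hu, QuadraticMap.polar_comm (⇑Q) w u,
        QuadraticMap.polar_comm (⇑Q) r u, hur]
      simpa using hp
    · rw [polar_add_left', polar_add_left', polar_self', hw, QuadraticMap.polar_comm (⇑Q) r w, hwr]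
      simpa using hp

omit hdim in
/-- A common non-orthogonal vector for a non-orthogonal pair orthogonal to a third. -/
theorem exists_tri {w a b : W} (hw : Q w = 0) (ha : Q a = 0) (hb : Q b = 0) (hew : polar Q e w = 0)
    (hea : polar Q e a = 0) (heb : polar Q e b = 0) (hw0 : w ≠ 0)
    (hwa : polar Q w a = 0) (hwb : polar Q w b = 0) (hab : polar Q a b = 1) :
    ∃ z, Q z = 0 ∧ polar Q e z = 0 ∧ polar Q z w ≠ 0 ∧ polar Q z a ≠ 0 ∧ polar Q z b ≠ 0 := by
  have hC := nondeg_hyp he ha hb hea heb (by rw [hab]; exact one_ne_zero)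
  set C := Submodule.span (ZMod 3) ({e, a, b} : Set W)
  have hperp : ∀ c ∈ C, polar Q c w = 0 := fun c hc => by
    obtain ⟨r, s, t, rfl⟩ := Submodule.mem_span_triple.1 hc
    simp [polar_add_left', polar_smul_left', hew, QuadraticMap.polar_comm (⇑Q) a w,
      QuadraticMap.polar_comm (⇑Q) b w, hwa, hwb]
  obtain ⟨y, hy, hwy, hyC⟩ := exists_singular_partner hQ hw hperp
    (fun hm => hw0 (hC w hm fun c hc => by rw [QuadraticMap.polar_comm]; exact hperp c hc))
  have hey := hyC e (Submodule.subset_span (by simp))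
  have hay := hyC a (Submodule.subset_span (by simp))
  have hby := hyC b (Submodule.subset_span (by simp))
  refine ⟨a + b + (y - w), ?_, ?_, ?_, ?_, ?_⟩
  · rw [apply_add, apply_add, sub_eq_add_neg, apply_add, ha, hb, hy, hab, QuadraticMap.map_neg, hw,
      QuadraticMap.polar_neg_right, QuadraticMap.polar_comm (⇑Q) y w, hwy, polar_add_left',
      polar_add_right', polar_add_right', hay, hby, QuadraticMap.polar_neg_right, QuadraticMap.polar_neg_right,
      QuadraticMap.polar_comm (⇑Q) a w, QuadraticMap.polar_comm (⇑Q) b w, hwa, hwb]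
    ring
  · rw [polar_add_right', polar_add_right', QuadraticMap.polar_sub_right, hea, heb, hey, hew]; ring
  · rw [polar_add_left', polar_add_left', QuadraticMap.polar_sub_left, QuadraticMap.polar_comm (⇑Q) a w,
      QuadraticMap.polar_comm (⇑Q) b w, hwa, hwb, QuadraticMap.polar_comm (⇑Q) y w, hwy, polar_self', hw]
    simp
  · rw [polar_add_left', polar_add_left', QuadraticMap.polar_sub_left, polar_self', ha,
      QuadraticMap.polar_comm (⇑Q) b a, hab, QuadraticMap.polar_comm (⇑Q) y a, hay, hwa]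
    simp
  · rw [polar_add_left', polar_add_left', QuadraticMap.polar_sub_left, polar_self', hb, hab,
      QuadraticMap.polar_comm (⇑Q) y b, hby, hwb]
    simp

/-- A common non-orthogonal vector for two orthogonal pairs. -/
theorem exists_quad {w₀ b c c' : W} (h₀ : Q w₀ = 0) (hb : Q b = 0) (hc : Q c = 0) (hc' : Q c' = 0)
    (e₀ : polar Q e w₀ = 0) (eb : polar Q e b = 0) (ec : polar Q e c = 0) (ec' : polar Q e c' = 0)
    (h0b : polar Q w₀ b = 0) (hcc : polar Q c c' = 0)
    (h0c : polar Q w₀ c = 1) (hbc : polar Q b c = 1) (h0c' : polar Q w₀ c' = 1) (hbc' : polar Q b c' ≠ 0) :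
    ∃ z, Q z = 0 ∧ polar Q e z = 0 ∧ polar Q z w₀ ≠ 0 ∧ polar Q z b ≠ 0 ∧ polar Q z c ≠ 0 ∧ polar Q z c' ≠ 0 := by
  by_cases h6 : Module.finrank (ZMod 3) W = 6
  · exact exists_quad_six hQ he h6 h₀ hb hc hc' e₀ eb ec ec' h0b hcc h0c hbc h0c' hbc'
  set C := Submodule.span (ZMod 3) ({e, w₀, c} : Set W) with hCdef
  have hC : NonDeg Q C := nondeg_hyp he h₀ hc e₀ ec (by rw [h0c]; exact one_ne_zero)
  have hc0 : polar Q c w₀ = 1 := by rw [QuadraticMap.polar_comm]; exact h0c
  have hcb : polar Q c b = 1 := by rw [QuadraticMap.polar_comm]; exact hbc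
  have hb0 : polar Q b w₀ = 0 := by rw [QuadraticMap.polar_comm]; exact h0b
  have hc'0 : polar Q c' w₀ = 1 := by rw [QuadraticMap.polar_comm]; exact h0c'
  have hc'c : polar Q c' c = 0 := by rw [QuadraticMap.polar_comm]; exact hcc
  set b₁ := b - w₀ with hb₁
  set c₁ := c' - c with hc₁
  have hCb : ∀ x ∈ C, polar Q x b₁ = 0 := fun x hx => by
    obtain ⟨r, s, t, rfl⟩ := Submodule.mem_span_triple.1 hx
    simp [hb₁, polar_add_left', polar_smul_left', QuadraticMap.polar_sub_right, eb, e₀, h0b, polar_self', h₀, hcb,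
      hc0]
  have hCc : ∀ x ∈ C, polar Q x c₁ = 0 := fun x hx => by
    obtain ⟨r, s, t, rfl⟩ := Submodule.mem_span_triple.1 hx
    simp [hc₁, polar_add_left', polar_smul_left', QuadraticMap.polar_sub_right, ec, ec', h0c, h0c', polar_self', hc,
      hcc]
  have hQb : Q b₁ = 0 := by
    rw [hb₁, sub_eq_add_neg, apply_add, QuadraticMap.map_neg, QuadraticMap.polar_neg_right, hb, h₀, hb0]; ring
  have hQc : Q c₁ = 0 := by
    rw [hc₁, sub_eq_add_neg, apply_add, QuadraticMap.map_neg, QuadraticMap.polar_neg_right, hc, hc', hc'c]; ring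
  have hdC : Module.finrank (ZMod 3) C ≤ 3 := finrank_three e w₀ c
  suffices ∃ r, Q r = -1 ∧ (∀ x ∈ C, polar Q x r = 0) ∧ (polar Q r b₁ = 0 ∨ polar Q r b₁ = 1) ∧ polar Q r c₁ = 0 by
    obtain ⟨r, hr, hrC, hp, hq⟩ := this
    have r0 : polar Q r w₀ = 0 := by rw [QuadraticMap.polar_comm]; exact hrC _ (Submodule.subset_span (by simp))
    have rc : polar Q r c = 0 := by rw [QuadraticMap.polar_comm]; exact hrC _ (Submodule.subset_span (by simp))
    have re : polar Q e r = 0 := hrC _ (Submodule.subset_span (by simp))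
    rw [hb₁, QuadraticMap.polar_sub_right, r0, sub_zero] at hp
    rw [hc₁, QuadraticMap.polar_sub_right, rc, sub_zero] at hq
    refine ⟨w₀ + c + r, ?_, ?_, ?_, ?_, ?_, ?_⟩
    · rw [apply_add, apply_add, h₀, hc, hr, h0c, polar_add_left', QuadraticMap.polar_comm (⇑Q) w₀ r, r0,
        QuadraticMap.polar_comm (⇑Q) c r, rc]
      ring
    · rw [polar_add_right', polar_add_right', e₀, ec, re]; ring
    · rw [polar_add_left', polar_add_left', polar_self', h₀, hc0, r0]; simp
    · rw [polar_add_left', polar_add_left', h0b, hcb]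
      rcases hp with hp | hp <;> rw [hp]
      · simp
      · rw [zero_add, one_add_one_eq_two]; exact two_ne
    · rw [polar_add_left', polar_add_left', h0c, polar_self', hc, rc]; simp
    · rw [polar_add_left', polar_add_left', h0c', hcc, hq]; simp
  by_cases hbc1 : polar Q b₁ c₁ = 0
  · by_cases hmem : b₁ ∈ C ⊔ Submodule.span (ZMod 3) {c₁}
    · obtain ⟨r, hr, hrC, hrP⟩ := exists_norm_perp hQ hC (Submodule.span (ZMod 3) {c₁})
        (by have := finrank_one (W := W) c₁; omega) (δ := -1) (neg_ne_zero.2 one_ne_zero)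
      have hrc : polar Q r c₁ = 0 := by rw [QuadraticMap.polar_comm]; exact hrP _ (Submodule.subset_span rfl)
      refine ⟨r, hr, hrC, Or.inl ?_, hrc⟩
      obtain ⟨x, hx, y, hy, hxy⟩ := Submodule.mem_sup.1 hmem
      obtain ⟨t, rfl⟩ := Submodule.mem_span_singleton.1 hy
      rw [← hxy, polar_add_right', polar_smul_right', hrc, QuadraticMap.polar_comm, hrC x hx]
      ring
    · obtain ⟨y, hy, hby, hyU⟩ := exists_singular_partner hQ hQb
        (U := C ⊔ Submodule.span (ZMod 3) {c₁}) (fun u hu => by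
          obtain ⟨x, hx, z, hz, rfl⟩ := Submodule.mem_sup.1 hu
          obtain ⟨t, rfl⟩ := Submodule.mem_span_singleton.1 hz
          rw [polar_add_left', polar_smul_left', hCb x hx, QuadraticMap.polar_comm, hbc1]; ring) hmem
      refine ⟨y - b₁, ?_, fun x hx => ?_, Or.inr ?_, ?_⟩
      · rw [sub_eq_add_neg, apply_add, QuadraticMap.map_neg, QuadraticMap.polar_neg_right, hy, hQb,
          QuadraticMap.polar_comm (⇑Q) y b₁, hby]
        ring
      · rw [QuadraticMap.polar_sub_right, hyU x (Submodule.mem_sup_left hx), hCb x hx, sub_zero]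
      · rw [QuadraticMap.polar_sub_left, QuadraticMap.polar_comm (⇑Q) y b₁, hby, polar_self', hQb]; simp
      · rw [QuadraticMap.polar_sub_left, hbc1, sub_zero, QuadraticMap.polar_comm]
        exact hyU c₁ (Submodule.mem_sup_right (Submodule.subset_span rfl))
  · set C' := C ⊔ Submodule.span (ZMod 3) ({b₁, c₁} : Set W)
    have hC' : NonDeg Q C' := by
      intro x hx h
      obtain ⟨x₀, hx₀, y, hy, rfl⟩ := Submodule.mem_sup.1 hx
      obtain ⟨s, t, rfl⟩ := Submodule.mem_span_pair.1 hy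
      have hb' := h b₁ (Submodule.mem_sup_right (Submodule.subset_span (by simp)))
      have hc'' := h c₁ (Submodule.mem_sup_right (Submodule.subset_span (by simp)))
      simp [polar_add_left', polar_smul_left', polar_self', hQb, hQc, hCb x₀ hx₀, hCc x₀ hx₀,
        QuadraticMap.polar_comm (⇑Q) c₁ b₁, hbc1] at hb' hc''
      simp only [hb', hc'', zero_smul, add_zero] at h ⊢
      exact hC x₀ hx₀ fun z hz => h z (Submodule.mem_sup_left hz)
    obtain ⟨r, hr, hrC, -⟩ := exists_norm_perp hQ hC' ⊥ (by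
        have h1 : Module.finrank (ZMod 3) C' ≤ 5 := by
          have h2 := Submodule.finrank_sup_add_finrank_inf_eq C (Submodule.span (ZMod 3) ({b₁, c₁} : Set W))
          have h3 := finrank_two (W := W) b₁ c₁
          show Module.finrank (ZMod 3) (C ⊔ Submodule.span (ZMod 3) ({b₁, c₁} : Set W) :) ≤ 5
          omega
        have : Module.finrank (ZMod 3) (⊥ : Submodule (ZMod 3) W) = 0 := finrank_bot _ _
        omega) (δ := -1) (neg_ne_zero.2 one_ne_zero)
    refine ⟨r, hr, fun x hx => hrC x (Submodule.mem_sup_left hx), Or.inl ?_, ?_⟩ <;>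
      rw [QuadraticMap.polar_comm] <;> exact hrC _ (Submodule.mem_sup_right (Submodule.subset_span (by simp)))

end Space

variable {G : Type u} [Group G]

namespace Sect

variable [Finite G] {D : Set G} {d : G} {e : W} {ψ : G → W} (h : Sect D Q d e ψ)
include h

/-- The chosen isotropic vector on the line of `a`. -/
noncomputable def ln (h : Sect D Q d e ψ) (a : G) : W :=
  haveI := Classical.propDecidable
  if ha : ∃ w, IsLine h a w then ha.choose else 0

theorem isLine (hf : h.Full) {a : G} (ha : h.Far a) : IsLine h a (h.ln a) := by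
  rw [ln, dif_pos (h.exists_line hf ha)]; exact (h.exists_line hf ha).choose_spec

theorem exists_member (hf : h.Full) {u : W} (hu : Q u = 0) (heu : polar Q e u = 0) (hu0 : u ≠ 0) :
    ∃ a, h.Far a ∧ ∃ t : ZMod 3, t ≠ 0 ∧ h.ln a = t • u := by
  obtain ⟨p, hp, hpC, hpu⟩ := exists_point h.nondeg (nondeg_single h.norm_e) (Submodule.span (ZMod 3) {u})
    (by have := finrank_one (W := W) e; have := finrank_one (W := W) u; have := h.dim; omega)
  obtain ⟨x, hx, hxp⟩ := h.model.surj p (hpC e (Submodule.subset_span rfl)) hp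
  have hxu : polar Q (ψ x) u = 0 := (Pm.polar_iff hxp (Pm.refl _)).2 (by
    rw [QuadraticMap.polar_comm]; exact hpu u (Submodule.subset_span rfl))
  have hv : Q (e + u) = 1 := by rw [apply_add, h.norm_e, hu, heu]; ring
  have hxe : polar Q (ψ x) e = 0 := by rw [QuadraticMap.polar_comm]; exact h.perp_ψ hx
  obtain ⟨a, ha, hau⟩ := (h.isChart hx).model.surj (e + u)
    (show polar Q (ψ x) (e + u) = 0 by rw [polar_add_right', hxe, hxu, add_zero]) hv
  have hiso : h.vec x a = u := by rw [vec, isoPart_pm h.norm_e hau, isoPart_of h.norm_e heu]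
  have hnc : ¬ Commute d a := fun hc => by
    have hne : a ≠ d := fun e' => hu0 (by
      rw [← hiso, vec, e', isoPart_pm h.norm_e (h.isChart hx).base, isoPart, polar_self', h.norm_e, mul_one,
        show -(2 : ZMod 3) = 1 from neg_two, one_smul, sub_self])
    have h1 := ((h.isChart hx).model.perp a ha d (h.mem_nb_symm hx) hne).1 hc.symm
    rw [Pm.polar_iff hau (h.isChart hx).base, polar_add_left', polar_self', h.norm_e,
      QuadraticMap.polar_comm (⇑Q) u e, heu, mul_one, add_zero] at h1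
    exact two_ne h1
  have hF : h.Far a := ⟨ha.1, hnc, x, hx, ⟨hx.1, Ne.symm ha.2.1, ha.2.2.symm⟩⟩
  obtain ⟨t, ht, e1⟩ := (h.isLine hf hF).vec x hx ⟨hx.1, Ne.symm ha.2.1, ha.2.2.symm⟩
  refine ⟨a, hF, t, ht, ?_⟩
  rw [← hiso, e1, smul_smul, sq_one t ht, one_smul]
where
  neg_two : -(2 : ZMod 3) = 1 := neg_two_mul' (t := 1) ▸ by rw [mul_one]

theorem near (hf : h.Full) {x a : G} (hx : x ∈ nb D d) (ha : h.Far a) (hp : polar Q (ψ x) (h.ln a) = 0) : a ∈ nb D x := by
  have := ((h.isLine hf ha).mem x hx).2 hp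
  exact ⟨ha.1, Ne.symm this.2.1, this.2.2.symm⟩

/-- In a common chart commuting is read off the lines. -/
theorem exists_coeff (hf : h.Full) {x a : G} (hx : x ∈ nb D d) (ha : h.Far a) (hp : polar Q (ψ x) (h.ln a) = 0) :
    ∃ t : ZMod 3, t ≠ 0 ∧ h.vec x a = t • h.ln a :=
  (h.isLine hf ha).vec x hx (((h.isLine hf ha).mem x hx).2 hp)

theorem commute_iff_vec (hf : h.Full) {x a b : G} (hx : x ∈ nb D d) (ha : h.Far a) (hb : h.Far b) (hne : a ≠ b)
    (hpa : polar Q (ψ x) (h.ln a) = 0) (hpb : polar Q (ψ x) (h.ln b) = 0) :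
    Commute a b ↔ polar Q (h.vec x a) (h.vec x b) = 1 := by
  have hax := h.near hf hx ha hpa
  have hbx := h.near hf hx hb hpb
  rw [(h.isChart hx).model.perp a hax b hbx hne, isoPart_polar h.norm_e (h.chart_polar hx hax ha.2.1)
    (h.chart_polar hx hbx hb.2.1)]
  rfl

theorem exists_x2 (hf : h.Full) {a b : G} (ha : h.Far a) (hb : h.Far b)
    (hab : polar Q (h.ln a) (h.ln b) ≠ 0) :
    ∃ x ∈ nb D d, polar Q (ψ x) (h.ln a) = 0 ∧ polar Q (ψ x) (h.ln b) = 0 := by
  have La := h.isLine hf ha; have Lb := h.isLine hf hb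
  obtain ⟨p, hp, hpC, -⟩ := exists_point h.nondeg (nondeg_hyp h.norm_e La.iso Lb.iso La.perp Lb.perp hab) ⊥
    (by have := finrank_three e (h.ln a) (h.ln b); have := h.dim
        have : Module.finrank (ZMod 3) (⊥ : Submodule (ZMod 3) W) = 0 := finrank_bot _ _; omega)
  obtain ⟨x, hx, hxp⟩ := h.model.surj p (hpC e (Submodule.subset_span (by simp))) hp
  exact ⟨x, hx, (Pm.polar_iff hxp (Pm.refl _)).2 (by
      rw [QuadraticMap.polar_comm]; exact hpC _ (Submodule.subset_span (by simp))),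
    (Pm.polar_iff hxp (Pm.refl _)).2 (by
      rw [QuadraticMap.polar_comm]; exact hpC _ (Submodule.subset_span (by simp)))⟩

/-- Two commuting members off `d` have a common neighbour commuting with `d`. -/
theorem exists_x3 (hf : h.Full) {a b : G} (ha : h.Far a) (hb : h.Far b) (hne : a ≠ b) (hc : Commute a b) :
    ∃ x ∈ nb D d, x ∈ nb D a ∧ x ∈ nb D b := by
  obtain ⟨g, hg⟩ := h.trans a ha.1
  have hg' : g⁻¹ * a * (g⁻¹)⁻¹ = d := by rw [← hg]; group
  set y := g⁻¹ * b * g with hy
  have hyd : y ∈ nb D d := conj_mem_nb h.grp hg ⟨hb.1, hne.symm, hc⟩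
  have hcomm : ∀ {p q : G}, Commute (g⁻¹ * p * g) (g⁻¹ * q * g) → Commute p q := fun {p q} hh => by
    have := hh.map (MulAut.conj g).toMonoidHom
    simpa [mul_assoc] using this
  set d' := g⁻¹ * d * g with hd'
  have hgd : g⁻¹ * a * g = d := by rw [← hg]; group
  have hd'F : h.Far d' := by
    obtain ⟨haD, hnc, x, hx, hxa⟩ := ha
    refine ⟨by simpa [hd'] using h.grp.2.1 g⁻¹ d h.mem_d, fun hh => hnc ?_, g⁻¹ * x * g, conj_mem_nb h.grp hg hxa, ?_⟩
    · exact (hcomm (p := a) (q := d) (by rw [hgd]; exact hh)).symm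
    · refine conj_mem_nb h.grp (g := g) (x := d) (by rw [hd']; group) hx
  have hyd' : y ∉ nb D d' := fun hh => hb.2.1 (hcomm (p := d) (q := b) hh.2.2)
  have L := h.isLine hf hd'F
  have hβ : polar Q (ψ y) (h.ln d') ≠ 0 := fun h0 => hyd' ((L.mem y hyd).2 h0)
  have hC : NonDeg Q (Submodule.span (ZMod 3) {e, ψ y, h.ln d'}) := by
    intro v hv hperp
    obtain ⟨r, s, t, rfl⟩ := Submodule.mem_span_triple.1 hv
    have h1 := hperp e (Submodule.subset_span (by simp))
    have h2 := hperp (ψ y) (Submodule.subset_span (by simp))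
    have h3 := hperp (h.ln d') (Submodule.subset_span (by simp))
    simp [polar_add_left', polar_smul_left', polar_self', h.norm_e, h.norm_ψ hyd, L.iso, L.perp, h.perp_ψ hyd,
      QuadraticMap.polar_comm (⇑Q) (ψ y) e, QuadraticMap.polar_comm (⇑Q) (h.ln d') e,
      QuadraticMap.polar_comm (⇑Q) (h.ln d') (ψ y), hβ, two_ne] at h1 h2 h3
    simp [h3, hβ] at h2
    simp [h1, h2, h3]
  obtain ⟨p, hp, hpC, -⟩ := exists_point h.nondeg hC ⊥
    (by have := finrank_three e (ψ y) (h.ln d'); have := h.dim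
        have : Module.finrank (ZMod 3) (⊥ : Submodule (ZMod 3) W) = 0 := finrank_bot _ _; omega)
  obtain ⟨z, hz, hzp⟩ := h.model.surj p (hpC e (Submodule.subset_span (by simp))) hp
  have hzy : z ∈ nb D y := by
    obtain ⟨n1, c1⟩ := h.model.perp' hyd hz
      ((Pm.polar_iff (Pm.refl _) hzp).2 (hpC _ (Submodule.subset_span (by simp))))
    exact ⟨hz.1, n1.symm, c1⟩
  have hzd' : z ∈ nb D d' := (L.mem z hz).2 ((Pm.polar_iff hzp (Pm.refl _)).2 (by
    rw [QuadraticMap.polar_comm]; exact hpC _ (Submodule.subset_span (by simp))))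
  have back : ∀ {p₀ q : G}, q ∈ nb D (g⁻¹ * p₀ * g) → g * q * g⁻¹ ∈ nb D p₀ := fun {p₀ q} hq => by
    simpa using conj_mem_nb h.grp (g := g⁻¹) (x := g⁻¹ * p₀ * g) (d := p₀) (by group) hq
  exact ⟨g * z * g⁻¹, back hzd', back (hgd.symm ▸ hz), back hzy⟩

/-- Two members with orthogonal lines do not commute. -/
theorem not_commute_of_orth (hf : h.Full) {a b : G} (ha : h.Far a) (hb : h.Far b) (hne : a ≠ b)
    (hp : polar Q (h.ln a) (h.ln b) = 0) : ¬ Commute a b := by
  intro hc
  obtain ⟨x, hx, hxa', hxb'⟩ := h.exists_x3 hf ha hb hne hc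
  have hxa := ((h.isLine hf ha).mem x hx).1 hxa'
  have hxb := ((h.isLine hf hb).mem x hx).1 hxb'
  obtain ⟨s, -, e1⟩ := h.exists_coeff hf hx ha hxa
  obtain ⟨t, -, e2⟩ := h.exists_coeff hf hx hb hxb
  rw [h.commute_iff_vec hf hx ha hb hne hxa hxb, e1, e2, polar_smul_left', polar_smul_right', hp, mul_zero,
    mul_zero] at hc
  exact zero_ne_one hc

/-- The sign of an edge. -/
noncomputable def edge (h : Sect D Q d e ψ) (a b : G) : ZMod 3 :=
  haveI := Classical.propDecidable
  (if Commute a b then 1 else -1) * polar Q (h.ln a) (h.ln b)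

theorem edge_eq (hf : h.Full) {x a b : G} {s t : ZMod 3} (hx : x ∈ nb D d) (ha : h.Far a) (hb : h.Far b)
    (hpa : polar Q (ψ x) (h.ln a) = 0) (hpb : polar Q (ψ x) (h.ln b) = 0) (hab : polar Q (h.ln a) (h.ln b) ≠ 0)
    (hs : s ≠ 0) (ht : t ≠ 0) (es : h.vec x a = s • h.ln a) (et : h.vec x b = t • h.ln b) :
    h.edge a b = s * t := by
  have hne : a ≠ b := fun e' => hab (by subst e'; rw [polar_self', (h.isLine hf ha).iso, mul_zero])
  have hiff := h.commute_iff_vec hf hx ha hb hne hpa hpb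
  rw [es, et, polar_smul_left', polar_smul_right'] at hiff
  rw [edge]
  by_cases hc : Commute a b
  · rw [if_pos hc]
    exact edge_pos _ _ _ hs ht hab (hiff.1 hc)
  · rw [if_neg hc]
    exact edge_neg _ _ _ hs ht hab (fun e' => hc (hiff.2 e'))
where
  edge_pos : ∀ s t p : ZMod 3, s ≠ 0 → t ≠ 0 → p ≠ 0 → s * (t * p) = 1 → 1 * p = s * t := by
    intro s t p hs ht hp h1
    linear_combination (s * t) * h1 - (t * t * p) * sq_one s hs - p * sq_one t ht
  edge_neg : ∀ s t p : ZMod 3, s ≠ 0 → t ≠ 0 → p ≠ 0 → ¬ s * (t * p) = 1 → -1 * p = s * t := by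
    intro s t p hs ht hp h1
    have h2 : s * (t * p) = -1 := (sign_cases _ (mul_ne_zero hs (mul_ne_zero ht hp))).resolve_left h1
    linear_combination -(s * t) * h2 + (t * t * p) * sq_one s hs + p * sq_one t ht

theorem triangle (hf : h.Full) {a b c : G} (ha : h.Far a) (hb : h.Far b) (hc : h.Far c) (hab : polar Q (h.ln a) (h.ln b) ≠ 0)
    (hbc : polar Q (h.ln b) (h.ln c) ≠ 0) (hac : polar Q (h.ln a) (h.ln c) ≠ 0) :
    h.edge a b * h.edge b c * h.edge a c = 1 := by
  have La := h.isLine hf ha; have Lb := h.isLine hf hb; have Lc := h.isLine hf hc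
  set C := Submodule.span (ZMod 3) ({e} ∪ {h.ln a, h.ln b, h.ln c} : Set W) with hCdef
  have hC : NonDeg Q C := by
    intro v hv hperp
    rw [hCdef, Submodule.span_union] at hv
    obtain ⟨x₀, hx₀, y, hy, rfl⟩ := Submodule.mem_sup.1 hv
    obtain ⟨r, rfl⟩ := Submodule.mem_span_singleton.1 hx₀
    obtain ⟨s, t, k, rfl⟩ := Submodule.mem_span_triple.1 hy
    have h0 := hperp e (Submodule.subset_span (by simp))
    have h1 := hperp (h.ln a) (Submodule.subset_span (by simp))
    have h2 := hperp (h.ln b) (Submodule.subset_span (by simp))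
    have h3 := hperp (h.ln c) (Submodule.subset_span (by simp))
    simp [polar_add_left', polar_smul_left', polar_self', h.norm_e, La.iso, Lb.iso, Lc.iso, La.perp, Lb.perp,
      Lc.perp, QuadraticMap.polar_comm (⇑Q) (h.ln a) e, QuadraticMap.polar_comm (⇑Q) (h.ln b) e,
      QuadraticMap.polar_comm (⇑Q) (h.ln c) e, QuadraticMap.polar_comm (⇑Q) (h.ln b) (h.ln a),
      QuadraticMap.polar_comm (⇑Q) (h.ln c) (h.ln a), QuadraticMap.polar_comm (⇑Q) (h.ln c) (h.ln b),
      two_ne] at h0 h1 h2 h3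
    generalize polar Q (h.ln a) (h.ln b) = p₁ at *
    generalize polar Q (h.ln b) (h.ln c) = p₂ at *
    generalize polar Q (h.ln a) (h.ln c) = p₃ at *
    obtain ⟨rfl, rfl, rfl⟩ := tri_aux p₁ p₂ p₃ s t k hab hbc hac h1 h2 h3
    simp [h0]
  obtain ⟨p, hp, hpC, -⟩ := exists_point h.nondeg hC ⊥ (by
    have h1 : Module.finrank (ZMod 3) C ≤ 4 := by
      rw [hCdef, Submodule.span_union]
      have := finrank_one (W := W) e
      have := finrank_three (h.ln a) (h.ln b) (h.ln c)
      have := Submodule.finrank_sup_add_finrank_inf_eq (Submodule.span (ZMod 3) ({e} : Set W))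
        (Submodule.span (ZMod 3) ({h.ln a, h.ln b, h.ln c} : Set W))
      omega
    have : Module.finrank (ZMod 3) (⊥ : Submodule (ZMod 3) W) = 0 := finrank_bot _ _
    have := h.dim
    omega)
  obtain ⟨x, hx, hxp⟩ := h.model.surj p (hpC e (Submodule.subset_span (by simp))) hp
  have hxl : ∀ l ∈ ({h.ln a, h.ln b, h.ln c} : Set W), polar Q (ψ x) l = 0 := fun l hl =>
    (Pm.polar_iff hxp (Pm.refl _)).2 (by
      rw [QuadraticMap.polar_comm]; exact hpC l (Submodule.subset_span (Or.inr hl)))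
  obtain ⟨s, hs, es⟩ := h.exists_coeff hf hx ha (hxl _ (by simp))
  obtain ⟨t, ht, et⟩ := h.exists_coeff hf hx hb (hxl _ (by simp))
  obtain ⟨k, hk, ek⟩ := h.exists_coeff hf hx hc (hxl _ (by simp))
  rw [h.edge_eq hf hx ha hb (hxl _ (by simp)) (hxl _ (by simp)) hab hs ht es et,
    h.edge_eq hf hx hb hc (hxl _ (by simp)) (hxl _ (by simp)) hbc ht hk et ek,
    h.edge_eq hf hx ha hc (hxl _ (by simp)) (hxl _ (by simp)) hac hs hk es ek]
  linear_combination (t * t * k * k) * sq_one s hs + (k * k) * sq_one t ht + sq_one k hk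

/-- Signs making commuting the polar form. -/
theorem exists_signs' (hf : h.Full) : ∃ τ : G → ZMod 3, (∀ a, h.Far a → τ a ≠ 0) ∧
    ∀ a b, h.Far a → h.Far b → polar Q (h.ln a) (h.ln b) ≠ 0 → h.edge a b = τ a * τ b := by
  classical
  obtain ⟨u, hu0, hu, heu⟩ := exists_iso h.nondeg h.norm_e h.dim
  obtain ⟨a₀, ha₀, -⟩ := h.exists_member hf hu heu hu0
  let R : {a // h.Far a} → {a // h.Far a} → Prop := fun a b => polar Q (h.ln a) (h.ln b) ≠ 0
  have realise : ∀ z, Q z = 0 → polar Q e z = 0 → z ≠ 0 → ∃ c : {a // h.Far a}, ∀ l, polar Q z l ≠ 0 →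
      polar Q (h.ln c) l ≠ 0 := fun z hz hez hz0 => by
    obtain ⟨c, hc, t, ht, e1⟩ := h.exists_member hf hz hez hz0
    exact ⟨⟨c, hc⟩, fun l hl => by rw [e1, polar_smul_left']; exact mul_ne_zero ht hl⟩
  have hsymm : ∀ a b, R a b → R b a := fun a b hab => by
    show polar Q _ _ ≠ 0
    rw [QuadraticMap.polar_comm]; exact hab
  have ne0 : ∀ {z l : W}, polar Q z l ≠ 0 → z ≠ 0 := fun hl e0 => hl (by rw [e0, QuadraticMap.polar_zero_left])
  obtain ⟨τ, hτ, hτ'⟩ := exists_potential R hsymm (fun a b => h.edge a b)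
    (fun a b hab => mul_ne_zero (by split_ifs <;> simp) hab)
    (fun a b => by
      simp only [edge, QuadraticMap.polar_comm (⇑Q) (h.ln b) (h.ln a)]
      congr 1
      exact if_congr ⟨Commute.symm, Commute.symm⟩ rfl rfl)
    (fun a b c hab hbc hac => h.triangle hf a.2 b.2 c.2 hab hbc hac) ⟨a₀, ha₀⟩
    (fun a => by
      have L0 := h.isLine hf ha₀; have La := h.isLine hf a.2
      obtain ⟨z, hz, hez, hz0, hza⟩ := exists_common h.nondeg h.norm_e h.dim L0.iso La.iso L0.perp La.perp L0.ne La.ne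
      obtain ⟨c, hc⟩ := realise z hz hez (ne0 hz0)
      exact ⟨c, hsymm _ _ (hc _ hz0), hc _ hza⟩)
    (fun a c c' hna h0c hca h0c' hc'a hcc' => by
      have L0 := h.isLine hf ha₀; have La := h.isLine hf a.2; have Lc := h.isLine hf c.2; have Lc' := h.isLine hf c'.2
      simp only [R, not_not] at hna hcc'
      -- scale
      set w₀ := h.ln a₀
      set l := h.ln a.1; set m := h.ln c.1; set m' := h.ln c'.1
      set s := polar Q w₀ m with hs; set s' := polar Q w₀ m' with hs'
      have hs0 : s ≠ 0 := h0c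
      have hs'0 : s' ≠ 0 := h0c'
      have hl : polar Q l m ≠ 0 := by rw [QuadraticMap.polar_comm]; exact hca
      have hl' : polar Q l m' ≠ 0 := by rw [QuadraticMap.polar_comm]; exact hc'a
      set t := s * polar Q l m with ht
      obtain ⟨z, hz, hez, z0, zb, zc, zc'⟩ := exists_quad h.nondeg h.norm_e h.dim (w₀ := w₀) (b := t • l)
        (c := s • m) (c' := s' • m') L0.iso (by rw [apply_smul, La.iso, mul_zero])
        (by rw [apply_smul, Lc.iso, mul_zero]) (by rw [apply_smul, Lc'.iso, mul_zero]) L0.perp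
        (by rw [polar_smul_right', La.perp, mul_zero]) (by rw [polar_smul_right', Lc.perp, mul_zero])
        (by rw [polar_smul_right', Lc'.perp, mul_zero]) (by rw [polar_smul_right', hna, mul_zero])
        (by rw [polar_smul_left', polar_smul_right', hcc', mul_zero, mul_zero])
        (by rw [polar_smul_right', ← hs, sq_one s hs0])
        (by
          rw [polar_smul_left', polar_smul_right', ht]
          linear_combination (polar Q l m * polar Q l m) * sq_one s hs0 + sq_one _ hl)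
        (by rw [polar_smul_right', ← hs', sq_one s' hs'0])
        (by
          rw [polar_smul_left', polar_smul_right']
          exact mul_ne_zero (mul_ne_zero hs0 hl) (mul_ne_zero hs'0 hl'))
      rw [polar_smul_right'] at zb zc zc'
      obtain ⟨k, hk⟩ := realise z hz hez (ne0 z0)
      exact ⟨k, hsymm _ _ (hk _ z0), hk _ (right_ne_zero_of_mul zb), hk _ (right_ne_zero_of_mul zc),
        hk _ (right_ne_zero_of_mul zc')⟩)
    (fun a b hna hnb hab => by
      have L0 := h.isLine hf ha₀; have La := h.isLine hf a.2; have Lb := h.isLine hf b.2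
      simp only [R, not_not] at hna hnb
      set t := polar Q (h.ln a.1) (h.ln b.1) with ht
      obtain ⟨z, hz, hez, z0, za, zb⟩ := exists_tri h.nondeg h.norm_e (w := h.ln a₀) (a := h.ln a.1)
        (b := t • h.ln b.1) L0.iso La.iso (by rw [apply_smul, Lb.iso, mul_zero]) L0.perp La.perp
        (by rw [polar_smul_right', Lb.perp, mul_zero]) L0.ne hna (by rw [polar_smul_right', hnb, mul_zero])
        (by rw [polar_smul_right', ← ht, sq_one t hab])
      rw [polar_smul_right'] at zb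
      obtain ⟨k, hk⟩ := realise z hz hez (ne0 z0)
      exact ⟨k, hsymm _ _ (hk _ z0), hk _ za, hk _ (right_ne_zero_of_mul zb)⟩)
  exact ⟨fun a => if ha : h.Far a then τ ⟨a, ha⟩ else 1, fun a ha => by simp only [dif_pos ha]; exact hτ _,
    fun a b ha hb hab => by simp only [dif_pos ha, dif_pos hb]; exact hτ' ⟨a, ha⟩ ⟨b, hb⟩ hab⟩

end Sect

end CfsgLib.ThreeTrans.Refl3
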