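import Cfsg.Agent.Lib.ThreeTrans.Refl3.Rigid
import Cfsg.Agent.Lib.Classical.Quad.Eichler

/-!
Vectors of norm one of a quadratic space over the field with three elements (owner: helper6).
-/

set_option autoImplicit false

namespace CfsgLib.ThreeTrans.Refl3

open CfsgLib.Classical.Quad
open QuadraticMap (polar polarBilin)

universe v

theorem sum_self_zero : ∀ t : ZMod 3, t + t * (2 * 1) = 0 := by decide

variable [Fact (Nat.Prime 3)] {W : Type v} [AddCommGroup W] [Module (ZMod 3) W] [FiniteDimensional (ZMod 3) W]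
  {Q : QuadraticForm (ZMod 3) W}

/-- The vectors orthogonal to `v`. -/
abbrev perp (Q : QuadraticForm (ZMod 3) W) (v : W) : Submodule (ZMod 3) W := LinearMap.ker (polarBilin Q v)

omit [FiniteDimensional (ZMod 3) W] in
theorem mem_perp {v x : W} : x ∈ perp Q v ↔ polar Q v x = 0 := Iff.rfl

/-- The image of `y` under the reflection in the vector `x` of norm one. -/
def rfl3 (Q : QuadraticForm (ZMod 3) W) (x y : W) : W := y - polar Q y x • x

omit [FiniteDimensional (ZMod 3) W] in
theorem refl_eq_rfl3 {x : W} (hx : Q x = 1) (h : Q x ≠ 0) (y : W) :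
    (refl h : W ≃ₗ[ZMod 3] W) y = rfl3 Q x y := by
  rw [refl_apply, hx, inv_one, one_mul, rfl3]

omit [FiniteDimensional (ZMod 3) W] in
theorem apply_rfl3 {x : W} (hx : Q x = 1) (y : W) : Q (rfl3 Q x y) = Q y := by
  have h : Q x ≠ 0 := by rw [hx]; exact one_ne_zero
  rw [← refl_eq_rfl3 hx h, OQ.map_apply]

omit [FiniteDimensional (ZMod 3) W] in
theorem polar_rfl3 {x : W} (hx : Q x = 1) (y z : W) :
    polar Q (rfl3 Q x y) (rfl3 Q x z) = polar Q y z := by
  have h : Q x ≠ 0 := by rw [hx]; exact one_ne_zero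
  rw [← refl_eq_rfl3 hx h, ← refl_eq_rfl3 hx h, OQ.map_polar]

omit [FiniteDimensional (ZMod 3) W] in
theorem rfl3_pm {x x' y y' : W} (hx : Pm x x') (hy : Pm y y') : Pm (rfl3 Q x y) (rfl3 Q x' y') := by
  rcases hx with rfl | rfl <;> rcases hy with rfl | rfl
  · exact Pm.refl _
  · exact Or.inr (by rw [rfl3, rfl3, QuadraticMap.polar_neg_left]; module)
  · exact Or.inl (by rw [rfl3, rfl3, QuadraticMap.polar_neg_right]; module)
  · exact Or.inr (by rw [rfl3, rfl3, QuadraticMap.polar_neg_right, QuadraticMap.polar_neg_left]; module)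

omit [FiniteDimensional (ZMod 3) W] in
theorem Pm.apply_eq {v w : W} (h : Pm v w) : Q v = Q w := by
  rcases h with rfl | rfl <;> simp

omit [FiniteDimensional (ZMod 3) W] in
theorem Pm.polar_iff {v v' w w' : W} (h : Pm v v') (h' : Pm w w') : polar Q v w = 0 ↔ polar Q v' w' = 0 := by
  rcases h with rfl | rfl <;> rcases h' with rfl | rfl <;> simp

omit [FiniteDimensional (ZMod 3) W] in
theorem polar_pm_zero_left {v v' w : W} (h : Pm v v') : polar Q v w = 0 ↔ polar Q v' w = 0 :=
  Pm.polar_iff h (Pm.refl w)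

/-- The vectors on which `P` is nondegenerate. -/
def NonDeg (Q : QuadraticForm (ZMod 3) W) (P : Submodule (ZMod 3) W) : Prop :=
  ∀ x ∈ P, (∀ y ∈ P, polar Q x y = 0) → x = 0

section Nondeg

variable (hQ : (polarBilin Q).Nondegenerate)
include hQ

/-- A vector of given norm orthogonal to a nondegenerate subspace and to a further small one. -/
theorem exists_norm_perp {C : Submodule (ZMod 3) W} (hC : NonDeg Q C) (P : Submodule (ZMod 3) W)
    (hdim : Module.finrank (ZMod 3) C + 2 * Module.finrank (ZMod 3) P + 2 ≤ Module.finrank (ZMod 3) W)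
    {δ : ZMod 3} (hδ : δ ≠ 0) :
    ∃ v, Q v = δ ∧ (∀ u ∈ C, polar Q u v = 0) ∧ ∀ u ∈ P, polar Q u v = 0 := by
  set K := LinearMap.BilinForm.orthogonal (polarBilin Q) C with hK
  have hrefl : LinearMap.BilinForm.IsRefl (polarBilin Q) := fun a b h => by
    show polar Q b a = 0
    rw [QuadraticMap.polar_comm]; exact h
  have hdisj : Disjoint C K := Submodule.disjoint_def.2 fun x hx hxK => hC x hx fun y hy => by
    rw [QuadraticMap.polar_comm]; exact hxK y hy
  have hd : Module.finrank (ZMod 3) K = Module.finrank (ZMod 3) W - Module.finrank (ZMod 3) C :=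
    LinearMap.BilinForm.finrank_orthogonal hQ C
  have hsup : C ⊔ K = ⊤ := by
    refine Submodule.eq_top_of_finrank_eq ?_
    have := Submodule.finrank_sup_add_finrank_inf_eq C K
    rw [hdisj.eq_bot, finrank_bot] at this
    have := Submodule.finrank_le C
    omega
  have hp : ∀ x y : K, polar (Q.comp K.subtype) x y = polar Q (x : W) y := fun x y => by
    simp only [polar, QuadraticMap.comp_apply, Submodule.subtype_apply, Submodule.coe_add]
  have key : ∀ x : K, (∀ y : K, polar Q (x : W) y = 0) → x = 0 := by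
    intro x hx
    refine Subtype.ext (hQ.1 _ fun z => ?_)
    obtain ⟨c, hc, k, hk, rfl⟩ := Submodule.mem_sup.1 (hsup ▸ Submodule.mem_top : z ∈ C ⊔ K)
    show polar Q (x : W) (c + k) = 0
    rw [polar_add_right', hx ⟨k, hk⟩, QuadraticMap.polar_comm, show polar Q c (x : W) = 0 from x.2 c hc, add_zero]
  have hnd : (polarBilin (Q.comp K.subtype)).Nondegenerate :=
    ⟨fun x hx => key x fun y => by rw [← hp]; exact hx y,
      fun x hx => key x fun y => by rw [← hp, QuadraticMap.polar_comm]; exact hx y⟩
  set P' := (C ⊔ P).comap K.subtype with hP'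
  have hP'd : Module.finrank (ZMod 3) P' ≤ Module.finrank (ZMod 3) P := by
    have h1 : Module.finrank (ZMod 3) P' = Module.finrank (ZMod 3) (P'.map K.subtype) :=
      (Submodule.equivMapOfInjective _ Subtype.val_injective P').finrank_eq
    have hle : C ⊔ P'.map K.subtype ≤ C ⊔ P := sup_le le_sup_left (Submodule.map_comap_le _ _)
    have hd' : Disjoint C (P'.map K.subtype) := hdisj.mono_right (Submodule.map_subtype_le _ _)
    have h2 := Submodule.finrank_sup_add_finrank_inf_eq C (P'.map K.subtype)
    rw [hd'.eq_bot, finrank_bot] at h2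
    have h3 := Submodule.finrank_sup_add_finrank_inf_eq C P
    have h4 := Submodule.finrank_mono hle
    omega
  obtain ⟨v, hv, hvP⟩ := exists_apply_eq_perp hnd P' (by omega) hδ
  refine ⟨v, hv, fun u hu => v.2 u hu, fun u hu => ?_⟩
  obtain ⟨c, hc, k, hk, rfl⟩ := Submodule.mem_sup.1 (hsup ▸ Submodule.mem_top : u ∈ C ⊔ K)
  have hk' : (⟨k, hk⟩ : K) ∈ P' := by
    have h1 : (c + k) + (-c) ∈ C ⊔ P :=
      Submodule.add_mem _ (Submodule.mem_sup_right hu) (Submodule.mem_sup_left (C.neg_mem hc))
    rwa [add_comm c k, add_neg_cancel_right] at h1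
  have := hvP _ hk'
  rw [hp] at this
  rw [polar_add_left', show polar Q c (v : W) = 0 from v.2 c hc, this, add_zero]

/-- A vector of norm one orthogonal to a nondegenerate subspace and to a further small one. -/
theorem exists_point {C : Submodule (ZMod 3) W} (hC : NonDeg Q C) (P : Submodule (ZMod 3) W)
    (hdim : Module.finrank (ZMod 3) C + 2 * Module.finrank (ZMod 3) P + 2 ≤ Module.finrank (ZMod 3) W) :
    ∃ v, Q v = 1 ∧ (∀ u ∈ C, polar Q u v = 0) ∧ ∀ u ∈ P, polar Q u v = 0 :=
  exists_norm_perp hQ hC P hdim one_ne_zero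

end Nondeg

omit [FiniteDimensional (ZMod 3) W] in
theorem nondeg_pair {a b : W} (ha : Q a = 1) (hb : Q b = 1) (hab : polar Q a b = 0) :
    NonDeg Q (Submodule.span (ZMod 3) {a, b}) := by
  intro x hx h
  obtain ⟨s, t, rfl⟩ := Submodule.mem_span_pair.1 hx
  have h1 := h a (Submodule.subset_span (by simp))
  have h2 := h b (Submodule.subset_span (by simp))
  simp [polar_add_left', polar_smul_left', polar_self', ha, hb, hab, QuadraticMap.polar_comm (⇑Q) b a,
    two_ne] at h1 h2
  simp [h1, h2]

omit [FiniteDimensional (ZMod 3) W] in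
theorem nondeg_triple {a b c : W} (ha : Q a = 1) (hb : Q b = 1) (hc : Q c = 1) (hab : polar Q a b = 0)
    (hac : polar Q a c = 0) (hbc : polar Q b c = 0) :
    NonDeg Q (Submodule.span (ZMod 3) {a, b, c}) := by
  intro x hx h
  obtain ⟨s, t, r, rfl⟩ := Submodule.mem_span_triple.1 hx
  have h1 := h a (Submodule.subset_span (by simp))
  have h2 := h b (Submodule.subset_span (by simp))
  have h3 := h c (Submodule.subset_span (by simp))
  simp [polar_add_left', polar_smul_left', polar_self', ha, hb, hc, hab, hac, hbc,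
    QuadraticMap.polar_comm (⇑Q) b a, QuadraticMap.polar_comm (⇑Q) c a, QuadraticMap.polar_comm (⇑Q) c b,
    two_ne] at h1 h2 h3
  simp [h1, h2, h3]

omit [FiniteDimensional (ZMod 3) W] in
theorem nondeg_single {a : W} (ha : Q a = 1) : NonDeg Q (Submodule.span (ZMod 3) {a}) := by
  intro x hx h
  obtain ⟨s, rfl⟩ := Submodule.mem_span_singleton.1 hx
  have h1 := h a (Submodule.subset_span rfl)
  simp [polar_smul_left', polar_self', ha, two_ne] at h1
  simp [h1]

omit [FiniteDimensional (ZMod 3) W] in
theorem finrank_span_le {S : Set W} {k : ℕ} [Fintype S] (h : S.toFinset.card ≤ k) :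
    Module.finrank (ZMod 3) (Submodule.span (ZMod 3) S) ≤ k :=
  (finrank_span_le_card S).trans h

theorem finrank_one (a : W) : Module.finrank (ZMod 3) (Submodule.span (ZMod 3) ({a} : Set W)) ≤ 1 := by
  classical
  simpa using finrank_span_le_card (R := ZMod 3) ({a} : Set W)

theorem finrank_two (a b : W) : Module.finrank (ZMod 3) (Submodule.span (ZMod 3) ({a, b} : Set W)) ≤ 2 := by
  classical
  exact (finrank_span_le_card (R := ZMod 3) ({a, b} : Set W)).trans (by simpa using Finset.card_le_two)

theorem finrank_three (a b c : W) :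
    Module.finrank (ZMod 3) (Submodule.span (ZMod 3) ({a, b, c} : Set W)) ≤ 3 := by
  classical
  exact (finrank_span_le_card (R := ZMod 3) ({a, b, c} : Set W)).trans (by simpa using Finset.card_le_three)

/-- In the complement of `C`, an isotropic vector is determined by the points orthogonal to it. -/
theorem mem_span_of_point (hQ : (polarBilin Q).Nondegenerate) {C : Submodule (ZMod 3) W} (hC : NonDeg Q C)
    {u w : W} (hu : Q u = 0) (hw : Q w = 0) (huC : ∀ c ∈ C, polar Q c u = 0) (hwC : ∀ c ∈ C, polar Q c w = 0)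
    (hex : ∃ p, Q p = 1 ∧ (∀ c ∈ C, polar Q c p = 0) ∧ polar Q u p = 0)
    (hpts : ∀ p, Q p = 1 → (∀ c ∈ C, polar Q c p = 0) → polar Q u p = 0 → polar Q w p = 0) :
    w ∈ Submodule.span (ZMod 3) {u} := by
  obtain ⟨p, hp, hpC, hup⟩ := hex
  have hwp := hpts p hp hpC hup
  by_contra hnot
  have hwu : polar Q w u = 0 := by
    have h := hpts (p + u) (by rw [apply_add, hp, hu, QuadraticMap.polar_comm, hup]; ring)
      (fun c hc => by rw [polar_add_right', hpC c hc, huC c hc, add_zero])
      (by rw [polar_add_right', hup, polar_self', hu]; ring)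
    rwa [polar_add_right', hwp, zero_add] at h
  have hnot' : w ∉ C ⊔ Submodule.span (ZMod 3) {u} := by
    intro h
    obtain ⟨c, hc, z, hz, rfl⟩ := Submodule.mem_sup.1 h
    obtain ⟨t, rfl⟩ := Submodule.mem_span_singleton.1 hz
    have hc0 : c = 0 := hC c hc fun y hy => by
      have := hwC y hy
      rw [polar_add_right', polar_smul_right', huC y hy, mul_zero, add_zero, QuadraticMap.polar_comm] at this
      exact this
    exact hnot (by rw [hc0, zero_add]; exact Submodule.mem_span_singleton.2 ⟨t, rfl⟩)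
  obtain ⟨z, hwz, hzP⟩ := exists_sep_polar hQ hnot'
  have hzC : ∀ c ∈ C, polar Q c z = 0 := fun c hc => hzP c (Submodule.mem_sup_left hc)
  have huz : polar Q u z = 0 := hzP u (Submodule.mem_sup_right (Submodule.subset_span rfl))
  -- make it orthogonal to `p` and isotropic
  set z₁ := z + polar Q z p • p with hz₁
  have h1p : polar Q z₁ p = 0 := by
    rw [hz₁, polar_add_left', polar_smul_left', polar_self', hp]
    generalize polar Q z p = t
    revert t
    exact sum_self_zero
  have h1u : polar Q u z₁ = 0 := by rw [hz₁, polar_add_right', polar_smul_right', huz, hup]; ring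
  have h1w : polar Q w z₁ = 1 := by rw [hz₁, polar_add_right', polar_smul_right', hwz, hwp]; ring
  have h1C : ∀ c ∈ C, polar Q c z₁ = 0 := fun c hc => by
    rw [hz₁, polar_add_right', polar_smul_right', hzC c hc, hpC c hc]; ring
  set z₂ := z₁ - Q z₁ • w with hz₂
  have h2Q : Q z₂ = 0 := by
    rw [hz₂, sub_eq_add_neg, ← neg_smul, apply_add, apply_smul, polar_smul_right', hw,
      QuadraticMap.polar_comm (⇑Q) z₁ w, h1w]
    ring
  have h2p : polar Q z₂ p = 0 := by
    rw [hz₂, QuadraticMap.polar_sub_left, polar_smul_left', h1p, hwp]; ring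
  have h2w : polar Q w z₂ = 1 := by
    rw [hz₂, QuadraticMap.polar_sub_right, polar_smul_right', h1w, polar_self', hw]; ring
  have h := hpts (p + z₂) (by rw [apply_add, hp, h2Q, QuadraticMap.polar_comm, h2p]; ring)
    (fun c hc => by
      rw [hz₂, polar_add_right', QuadraticMap.polar_sub_right, polar_smul_right', hpC c hc, h1C c hc, hwC c hc]
      ring)
    (by
      rw [hz₂, polar_add_right', QuadraticMap.polar_sub_right, polar_smul_right', hup, h1u,
        QuadraticMap.polar_comm (⇑Q) u w, hwu]
      ring)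
  rw [polar_add_right', hwp, h2w, zero_add] at h
  exact one_ne_zero h

/-- The same, with the point found from the dimension. -/
theorem mem_span_of_points (hQ : (polarBilin Q).Nondegenerate) {C : Submodule (ZMod 3) W} (hC : NonDeg Q C)
    {u w : W} (hu : Q u = 0) (hw : Q w = 0) (huC : ∀ c ∈ C, polar Q c u = 0) (hwC : ∀ c ∈ C, polar Q c w = 0)
    (hdim : Module.finrank (ZMod 3) C + 4 ≤ Module.finrank (ZMod 3) W)
    (hpts : ∀ p, Q p = 1 → (∀ c ∈ C, polar Q c p = 0) → polar Q u p = 0 → polar Q w p = 0) :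
    w ∈ Submodule.span (ZMod 3) {u} := by
  obtain ⟨p, hp, hpC, hpu⟩ := exists_point hQ hC (Submodule.span (ZMod 3) {u})
    (by have := finrank_one u; omega)
  exact mem_span_of_point hQ hC hu hw huC hwC ⟨p, hp, hpC, hpu u (Submodule.subset_span rfl)⟩ hpts

end CfsgLib.ThreeTrans.Refl3
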